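import Groth.Agent.RedCell22.Word
import Groth.Agent.RedCell22.Models
import Groth.Agent.RedCell22.Pts
import Groth.Agent.Sga3xB.DS
import Groth.Agent.VarDim.Top
import Mathlib.RingTheory.KrullDimension.Polynomial

/-!
# Products of additive groups and a split torus: an open in affine space, dimension of fibres
-/

set_option autoImplicit false
set_option linter.unusedSectionVars false
set_option linter.style.haveILetI false

universe u

open CategoryTheory CategoryTheory.Limits AlgebraicGeometry MonoidalCategory CartesianMonoidalCategory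
open MonObj GrpObj

noncomputable section

namespace Groth.Agent.CellDim22

open Groth.Agent.RedCell22 Groth.Agent.Red23Lib.Pinned Groth.Agent Groth.Agent.GrpSchLib

variable {S : Scheme.{u}}

theorem isUnit_of_basicOpen_eq_top {T : Scheme.{u}} {z : Γ(T, ⊤)} (h : T.basicOpen z = ⊤) : IsUnit z := by
  have h1 := (T.toRingedSpace.isUnit_res_basicOpen z).map (T.presheaf.map (eqToHom h.symm).op).hom
  change IsUnit (((T.presheaf.map _) ≫ (T.presheaf.map _)) z) at h1
  rw [← Functor.map_comp] at h1
  rw [Subsingleton.elim (_ ≫ (eqToHom h.symm).op) (𝟙 _), CategoryTheory.Functor.map_id] at h1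
  exact h1

variable (M : Type) [AddCommGroup M] [Module.Free ℤ M] [Module.Finite ℤ M] (n m : ℕ)

/-- The product of additive groups and a split torus. -/
abbrev Src : Over S := RedSub.pow (Red.Ga S) n ⊗ (Red.DS S M ⊗ RedSub.pow (Red.Ga S) m)

/-- A basis of the characters. -/
def bas : Module.Basis (Fin (Module.finrank ℤ M)) ℤ M := Module.finBasis ℤ M

theorem dsCh_eq_prod {X : Over S} (t : X ⟶ Red.DS S M) (x : M) :
    dsCh t x = ∏ i, dsCh t (bas M i) ^ (bas M).repr x i := by
  refine (congrArg (fun z => dsChHom t (Multiplicative.ofAdd z)) ((bas M).sum_repr x).symm).trans ?_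
  simp only [ofAdd_sum, map_prod]
  exact Finset.prod_congr rfl fun i _ => dsCh_zsmul t _ _

/-- A coordinate of the torus as a function. -/
def cS (i : Fin (Module.finrank ℤ M)) : Red.DS S M ⟶ Red.Ga S :=
  GaPts.ptOfFn ((dsCh (𝟙 (Red.DS S M)) (bas M i) : (Γ((Red.DS S M).left, ⊤))ˣ) : Γ((Red.DS S M).left, ⊤))

theorem gaFn_comp_cS {X : Over S} (t : X ⟶ Red.DS S M) (i : Fin (Module.finrank ℤ M)) :
    Red.gaFn (t ≫ cS M i) = (dsCh t (bas M i) : Γ(X.left, ⊤)) := by
  rw [GaPts.gaFn_comp, cS, GaPts.gaFn_ptOfFn, ← dsCh_comp, Category.comp_id]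

abbrev iN (k : Fin n) : Fin (n + (Module.finrank ℤ M + m)) := Fin.castAdd _ k
abbrev iT (i : Fin (Module.finrank ℤ M)) : Fin (n + (Module.finrank ℤ M + m)) := Fin.natAdd n (Fin.castAdd m i)
abbrev iP (k : Fin m) : Fin (n + (Module.finrank ℤ M + m)) :=
  Fin.natAdd n (Fin.natAdd (Module.finrank ℤ M) k)

/-- The coordinates. -/
def coords : Src (S := S) M n m ⟶ RedSub.pow (Red.Ga S) (n + (Module.finrank ℤ M + m)) :=
  tuple (Fin.append (fun k => fst _ _ ≫ proj (Red.Ga S) k)
    (Fin.append (fun i => snd _ _ ≫ fst _ _ ≫ cS M i) fun k => snd _ _ ≫ snd _ _ ≫ proj (Red.Ga S) k))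

theorem coords_iN (k : Fin n) : coords (S := S) M n m ≫ proj _ (iN M n m k) = fst _ _ ≫ proj (Red.Ga S) k := by
  rw [coords, tuple_proj, Fin.append_left]

theorem coords_iT (i : Fin (Module.finrank ℤ M)) :
    coords (S := S) M n m ≫ proj _ (iT M n m i) = snd _ _ ≫ fst _ _ ≫ cS M i := by
  rw [coords, tuple_proj, Fin.append_right, Fin.append_left]

theorem coords_iP (k : Fin m) :
    coords (S := S) M n m ≫ proj _ (iP M n m k) = snd _ _ ≫ snd _ _ ≫ proj (Red.Ga S) k := by
  rw [coords, tuple_proj, Fin.append_right, Fin.append_right]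

/-- The product is an open subscheme of affine space. -/
theorem isOpenImmersion_coords : IsOpenImmersion (coords (S := S) M n m).left := by
  let X := Src (S := S) M n m
  let A := RedSub.pow (Red.Ga S) (n + (Module.finrank ℤ M + m))
  let p : X ⟶ Red.DS S M := snd _ _ ≫ fst _ _
  let P : Γ(A.left, ⊤) := ∏ i, Red.gaFn (proj (Red.Ga S) (iT M n m i))
  let Uo := A.left.basicOpen P
  let U : Over S := Over.mk (Uo.ι ≫ A.hom)
  let j : U ⟶ A := Over.homMk Uo.ι rfl
  haveI : IsOpenImmersion j.left := inferInstanceAs (IsOpenImmersion Uo.ι)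
  haveI : Mono j := Over.mono_of_mono_left j
  have hjP : IsUnit (j.left.appTop P) := isUnit_of_basicOpen_eq_top (by
    rw [← Scheme.preimage_basicOpen_top]
    exact Uo.ι_preimage_self)
  have hu : ∀ i, IsUnit (Red.gaFn (j ≫ proj (Red.Ga S) (iT M n m i))) := fun i => by
    rw [GaPts.gaFn_comp]
    simp only [P, map_prod] at hjP
    exact isUnit_of_dvd_unit (Finset.dvd_prod_of_mem (fun k => j.left.appTop (Red.gaFn (proj (Red.Ga S) (iT M n m k))))
      (Finset.mem_univ i)) hjP
  let χ : Multiplicative M →* (Γ(U.left, ⊤))ˣ := MonoidHom.mk' (fun x => ∏ i, (hu i).unit ^ (bas M).repr x.toAdd i)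
    fun a b => by
      rw [← Finset.prod_mul_distrib]
      refine Finset.prod_congr rfl fun i _ => ?_
      rw [toAdd_mul, map_add, Finsupp.add_apply, zpow_add]
  let g : U ⟶ X := lift (tuple fun k => j ≫ proj (Red.Ga S) (iN M n m k))
    (lift (Sga3xB.ofCh χ) (tuple fun k => j ≫ proj (Red.Ga S) (iP M n m k)))
  have hpre : (coords (S := S) M n m).left ⁻¹ᵁ Uo = ⊤ := by
    rw [show Uo = A.left.basicOpen P from rfl, Scheme.preimage_basicOpen_top]
    refine Scheme.basicOpen_of_isUnit _ ?_
    simp only [P, map_prod, IsUnit.prod_iff]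
    intro i _
    rw [← GaPts.gaFn_comp, coords_iT, ← Category.assoc, gaFn_comp_cS]
    exact Units.isUnit _
  obtain ⟨h, hh⟩ := exists_lift' j (coords (S := S) M n m) (by
    rintro _ ⟨z, rfl⟩
    show _ ∈ Set.range Uo.ι
    rw [Uo.range_ι]
    exact (show z ∈ (coords (S := S) M n m).left ⁻¹ᵁ Uo by rw [hpre]; trivial))
  have hgj : g ≫ coords M n m = j := by
    refine tuple_ext fun idx => ?_
    rw [Category.assoc]
    induction idx using Fin.addCases with
    | left k =>
      rw [coords_iN, ← Category.assoc, lift_fst, tuple_proj]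
    | right idx =>
      induction idx using Fin.addCases with
      | left i =>
        refine GaPts.gaFn_injective ?_
        show Red.gaFn _ = Red.gaFn _
        rw [coords_iT, ← Category.assoc, lift_snd, ← Category.assoc, lift_fst, gaFn_comp_cS, Sga3xB.dsCh_ofCh]
        show ((∏ k, (hu k).unit ^ (bas M).repr (bas M i) k : (Γ(U.left, ⊤))ˣ) : Γ(U.left, ⊤)) = _
        rw [Finset.prod_eq_single i (fun k _ hk => by simp [hk.symm]) (fun h => absurd (Finset.mem_univ i) h)]
        simp
      | right k =>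
        rw [coords_iP, ← Category.assoc, lift_snd, ← Category.assoc, lift_snd, tuple_proj]
  have hhg : h ≫ g = 𝟙 X := by
    refine hom_ext _ _ ?_ (hom_ext _ _ ?_ ?_)
    · rw [Category.assoc, lift_fst, comp_tuple, Category.id_comp]
      refine (congrArg tuple (funext fun k => ?_)).trans (tuple_eta _)
      rw [← Category.assoc, hh, coords_iN]
    · rw [Category.assoc, Category.assoc, lift_snd_assoc, lift_fst, Category.id_comp]
      refine dsCh_ext fun x => ?_
      rw [dsCh_eq_prod M p x]
      refine Units.ext ?_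
      rw [dsCh_comp, Sga3xB.dsCh_ofCh]
      show h.left.appTop ((∏ i, (hu i).unit ^ (bas M).repr x i : (Γ(U.left, ⊤))ˣ) : Γ(U.left, ⊤)) = _
      change ((Units.map h.left.appTop.hom.toMonoidHom (∏ i, (hu i).unit ^ (bas M).repr x i) : (Γ(X.left, ⊤))ˣ) :
        Γ(X.left, ⊤)) = _
      rw [map_prod]
      refine congrArg Units.val (Finset.prod_congr rfl fun i _ => ?_)
      rw [map_zpow]
      refine congrArg (fun w => w ^ (bas M).repr x i) (Units.ext ?_)
      show h.left.appTop (Red.gaFn (j ≫ proj (Red.Ga S) (iT M n m i))) = _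
      rw [← GaPts.gaFn_comp, ← Category.assoc, hh, coords_iT, ← Category.assoc, gaFn_comp_cS]
    · rw [Category.assoc, Category.assoc, lift_snd_assoc, lift_snd, comp_tuple, Category.id_comp]
      refine (congrArg tuple (funext fun k => ?_)).trans (tuple_eta _)
      rw [← Category.assoc, hh, coords_iP, Category.assoc]
  have hgh : g ≫ h = 𝟙 U := by
    rw [← cancel_mono j, Category.assoc, hh, hgj, Category.id_comp]
  haveI : IsIso h := ⟨g, hhg, hgh⟩
  haveI : IsIso h.left := (inferInstance : IsIso ((Over.forget S).map h))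
  rw [← hh]
  show IsOpenImmersion (h.left ≫ j.left)
  infer_instance
where
  exists_lift' {S : Scheme.{u}} {X Y Z : Over S} (i : Y ⟶ Z) [IsOpenImmersion i.left] (g : X ⟶ Z)
      (hr : Set.range g.left ⊆ Set.range i.left) : ∃ y : X ⟶ Y, y ≫ i = g :=
    ⟨Over.homMk (IsOpenImmersion.lift i.left g.left hr)
      (by rw [← Over.w i, IsOpenImmersion.lift_fac_assoc, Over.w]),
      Over.OverMorphism.ext (IsOpenImmersion.lift_fac _ _ _)⟩

section Field

variable {K : Type u} [Field K] (β : Spec (CommRingCat.of K) ⟶ S) (N : ℕ)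

/-- The functions on a fibre of affine space are polynomials. -/
theorem nonempty_funRing_equiv :
    Nonempty (FunRing β (RedSub.pow (Red.Ga S) N) ≃ₐ[K] MvPolynomial (Fin N) K) := by
  let p := RedSub.pow (Red.Ga S) N
  let Φ : FunRing β p →ₐ[K] MvPolynomial (Fin N) K := ev β (powPt MvPolynomial.X)
  let q : tb β (FunRing β p) ⟶ p := pt β (AlgHom.id K _)
  let Ψ : MvPolynomial (Fin N) K →ₐ[K] FunRing β p := MvPolynomial.aeval (powCoord q)
  refine ⟨AlgEquiv.ofAlgHom Φ Ψ ?_ ?_⟩
  · refine MvPolynomial.algHom_ext fun i => ?_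
    rw [AlgHom.comp_apply, AlgHom.id_apply, MvPolynomial.aeval_X]
    have h : tm β Φ ≫ q = powPt MvPolynomial.X := ev_injective β (by rw [ev_comp, ev_pt, AlgHom.comp_id])
    have h2 := congrFun (congrArg powCoord h) i
    rw [← powPt_powCoord q, powPt_map, powCoord_powPt, powCoord_powPt] at h2
    exact h2
  · show Ψ.comp (ev β (powPt MvPolynomial.X)) = _
    rw [← ev_comp, powPt_map]
    simp only [Ψ, MvPolynomial.aeval_X]
    rw [powPt_powCoord, ev_pt]

/-- The fibres of affine space are irreducible of the expected dimension. -/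
theorem fibre_pow :
    IrreducibleSpace ↥(Red.bc β (RedSub.pow (Red.Ga S) N)).left ∧
      topologicalKrullDim ↥(Red.bc β (RedSub.pow (Red.Ga S) N)).left = ((N : ℕ∞) : WithBot ℕ∞) := by
  obtain ⟨e⟩ := nonempty_funRing_equiv β N
  let Z := pullback (RedSub.pow (Red.Ga S) N).hom β
  haveI : IsAffine Z := isAffine_of_isAffineHom (pullback.snd (RedSub.pow (Red.Ga S) N).hom β)
  haveI : IsDomain Γ(Z, ⊤) := e.toRingEquiv.toMulEquiv.isDomain _
  haveI : Nonempty ↥Z := (inferInstance : Nonempty ↥(Spec Γ(Z, ⊤))).map Z.isoSpec.inv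
  haveI : IsIntegral Z := isIntegral_of_isOpenImmersion Z.isoSpec.hom
  refine ⟨(inferInstance : IrreducibleSpace Z), ?_⟩
  show topologicalKrullDim ↥Z = _
  rw [(Scheme.homeoOfIso Z.isoSpec).isHomeomorph.topologicalKrullDim_eq]
  show topologicalKrullDim (PrimeSpectrum Γ(Z, ⊤)) = _
  rw [PrimeSpectrum.topologicalKrullDim_eq_ringKrullDim, ringKrullDim_eq_of_ringEquiv e.toRingEquiv,
    MvPolynomial.ringKrullDim_of_isNoetherianRing, ringKrullDim_eq_zero_of_field, zero_add, Nat.card_fin]
  rfl

theorem deg_comp_open {U X : Scheme.{u}} (f : X ⟶ Spec (CommRingCat.of K)) [LocallyOfFiniteType f]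
    [IrreducibleSpace X] (j : U ⟶ X) [IsOpenImmersion j] [IrreducibleSpace U] :
    topologicalKrullDim X = topologicalKrullDim U := by
  rw [VarDim.topologicalKrullDim_eq_deg_genericPoint f, VarDim.topologicalKrullDim_eq_deg_genericPoint (j ≫ f),
    VarDim.deg_comp f j, genericPoint_eq_of_isOpenImmersion j]

/-- An irreducible group fibre with such a cell has the expected dimension. -/
theorem dim_of_cell {Y : Over S} [Smooth Y.hom] (hY : IrreducibleSpace ↥(Red.bc β Y).left)
    (c : Src (S := S) M n m ⟶ Y) [IsOpenImmersion c.left] :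
    topologicalKrullDim ↥(Red.bc β Y).left = ((n + (Module.finrank ℤ M + m) : ℕ) : WithBot ℕ∞) := by
  obtain ⟨hA, hdim⟩ := fibre_pow β (n + (Module.finrank ℤ M + m))
  haveI := isOpenImmersion_coords (S := S) M n m
  let ξ := coords (S := S) M n m
  let X := Red.bc β (Src (S := S) M n m)
  let a := ((Over.pullback β).map ξ).left
  let c' := ((Over.pullback β).map c).left
  haveI : IsOpenImmersion a := MorphismProperty.baseChange_map β ξ (inferInstance : IsOpenImmersion ξ.left)
  haveI : IsOpenImmersion c' := MorphismProperty.baseChange_map β c (inferInstance : IsOpenImmersion c.left)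
  haveI : Nonempty ↥X.left := by
    let z : 𝟙_ (Over S) ⟶ Src (S := S) M n m :=
      lift (tuple fun _ => (1 : 𝟙_ (Over S) ⟶ Red.Ga S))
        (lift 1 (tuple fun _ => (1 : 𝟙_ (Over S) ⟶ Red.Ga S)))
    exact ⟨(pullback.lift (β ≫ z.left) (𝟙 _) (by
      rw [Category.assoc, Over.w z, Category.id_comp]; exact Category.comp_id β) :
        Spec (CommRingCat.of K) ⟶ pullback (Src (S := S) M n m).hom β) (IsLocalRing.closedPoint K)⟩
  haveI : PreirreducibleSpace ↥X.left := ⟨by
    have h1 := (PreirreducibleSpace.isPreirreducible_univ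
      (X := ↥(Red.bc β (RedSub.pow (Red.Ga S) (n + (Module.finrank ℤ M + m)))).left)).preimage a.isOpenEmbedding
    rwa [Set.preimage_univ] at h1⟩
  haveI : IrreducibleSpace ↥X.left := { toNonempty := inferInstance }
  haveI : Smooth (Red.bc β Y).hom := inferInstanceAs (Smooth (pullback.snd Y.hom β))
  haveI : Smooth (RedSub.pow (Red.Ga S) (n + (Module.finrank ℤ M + m))).hom := inferInstance
  haveI : Smooth (Red.bc β (RedSub.pow (Red.Ga S) (n + (Module.finrank ℤ M + m)))).hom :=
    inferInstanceAs (Smooth (pullback.snd (RedSub.pow (Red.Ga S) _).hom β))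
  rw [deg_comp_open (Red.bc β Y).hom c',
    ← deg_comp_open (Red.bc β (RedSub.pow (Red.Ga S) (n + (Module.finrank ℤ M + m)))).hom a, hdim]
  rfl

end Field

end Groth.Agent.CellDim22
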