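import Groth.Agent.Reduced22.DerivedLattice
import Groth.Agent.Reduced22.DerivedDim
import Groth.Agent.Reduced22.Main
import Groth.Agent.Red23Lib.Pinned.Inner
import Groth.Agent.AlgGrp25.LinPart
import Groth.Agent.DynX.SplitCentre
import Groth.Agent.S5342

/-!
# The geometric fibres of the kernel of the projection to the torus of killed characters
-/

set_option autoImplicit false
set_option linter.unusedSectionVars false
set_option linter.style.haveILetI false

universe u

open CategoryTheory CategoryTheory.Limits AlgebraicGeometry MonoidalCategory CartesianMonoidalCategory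
open MonObj GrpObj

noncomputable section

namespace Groth.Agent.DerivedSplit22

open Groth.Agent.RedCell22 Groth.Agent.Reduced22 Groth.Agent

theorem connectedSpace_geomFibre {S : Scheme.{u}} {X : Over S} (e : 𝟙_ (Over S) ⟶ X) (s : S)
    (hconn : _root_.IsConnected (X.hom.base ⁻¹' {s})) : ConnectedSpace ↥(Red.geomFibre s X).left := by
  let k₀ := S.residueField s
  let Z := pullback X.hom (S.fromSpecResidueField s)
  haveI : ConnectedSpace ↥Z := by
    have hr : Set.range (pullback.fst X.hom (S.fromSpecResidueField s)) = X.hom.base ⁻¹' {s} := by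
      rw [Scheme.Pullback.range_fst]
      congr 1
      exact Scheme.range_fromSpecResidueField s
    haveI : ConnectedSpace ↥(X.hom.base ⁻¹' {s}) := isConnected_iff_connectedSpace.mp hconn
    let h := (X.hom.fiberHomeo s)
    exact h.symm.surjective.connectedSpace h.symm.continuous
  haveI : ConnectedSpace ↥(Spec (CommRingCat.of (AlgebraicClosure k₀))) :=
    inferInstanceAs (ConnectedSpace (PrimeSpectrum (AlgebraicClosure k₀)))
  let x : Spec k₀ ⟶ Z := pullback.lift (S.fromSpecResidueField s ≫ e.left) (𝟙 _)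
    (by rw [Category.assoc, Over.w e, Category.id_comp]; exact Category.comp_id _)
  haveI : ConnectedSpace ↥(pullback (pullback.snd X.hom (S.fromSpecResidueField s))
      (Spec.map (CommRingCat.ofHom (algebraMap k₀ (AlgebraicClosure k₀))))) := S5342.result k₀ Z (Spec (CommRingCat.of (AlgebraicClosure k₀))) (pullback.snd X.hom (S.fromSpecResidueField s))
    (Spec.map (CommRingCat.ofHom (algebraMap k₀ (AlgebraicClosure k₀)))) x (pullback.lift_snd _ _ _)
  let i := pullbackLeftPullbackSndIso X.hom (S.fromSpecResidueField s)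
    (Spec.map (CommRingCat.ofHom (algebraMap k₀ (AlgebraicClosure k₀))))
  exact i.hom.homeomorph.surjective.connectedSpace i.hom.homeomorph.continuous

variable {S : Scheme.{u}} {G : Over S} [GrpObj G] [IsAffineHom G.hom] {D : Red.SplitRed G} {n m : ℕ}
variable {N : AddSubgroup D.M} (hN : ∀ x : D.M, x ∈ N ↔ ∀ a : D.idx, D.P.coroot a x = 0)
variable {φ : D.M →+ ℤ} {l : Fin n → D.idx} {l' : Fin m → D.idx}
variable {f : G ⟶ Red.DS S ↥N} [IsMonHom f] (hf : RedSub.cellMap D l l' ≫ f = cellChar D N n m)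
variable {D' : Over S} [GrpObj D'] (d : D' ⟶ G) [IsMonHom d] (hd : AlgGrp.IsKernel d f)

include hd in
theorem exists_factor {X : Over S} (g : X ⟶ G) (hg : g ≫ f = 1) : ∃ p : X ⟶ D', p ≫ d = g :=
  ⟨hd.lift g (toUnit X) (hg.trans Hom.one_def), hd.lift_fst _ _ _⟩

include hd in
theorem comp_f {X : Over S} (p : X ⟶ D') : (p ≫ d) ≫ f = 1 := by
  rw [Category.assoc, show d ≫ f = 1 from hd.w.trans Hom.one_def.symm, MonObj.comp_one]

include hd in
theorem mono_kernel : Mono d :=
  ⟨fun _ _ h => hd.hom_ext h (toUnit_unique _ _)⟩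

include hd in
theorem isClosedImmersion_kernel : IsClosedImmersion d.left := by
  haveI : IsAffineHom (Red.DS S ↥N).hom := isAffineHom_ds ↥N
  have h : η[Red.DS S ↥N].left ≫ (Red.DS S ↥N).hom = 𝟙 S := Over.w η[Red.DS S ↥N]
  haveI : IsClosedImmersion (η[Red.DS S ↥N].left ≫ (Red.DS S ↥N).hom) := by
    rw [h]; exact (inferInstance : @IsClosedImmersion S S (𝟙 S))
  have h2 : IsClosedImmersion η[Red.DS S ↥N].left := IsClosedImmersion.of_comp _ (Red.DS S ↥N).hom
  exact MorphismProperty.of_isPullback (P := @IsClosedImmersion) (hd.map (Over.forget S)).flip h2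

theorem comp_f_torus (hl : PosList D (-φ) l) (hf : RedSub.cellMap D l l' ≫ f = cellChar D N n m) {A : Type u}
    [CommRing A] {b : Spec (CommRingCat.of A) ⟶ S} (χ : Multiplicative D.M →* Aˣ) :
    (tG D (tpt D χ) : tb b A ⟶ G) ≫ f = dsPt (χ.comp (AddMonoidHom.toMultiplicative N.subtype)) := by
  rw [tG, Category.assoc, torus_comp_hom hl hf, tpt_proj]

include hN in
theorem exists_central_translate (base : D.P.Base) (hl : PosList D (-φ) l)
    (hf : RedSub.cellMap D l l' ≫ f = cellChar D N n m) {K : Type u} [Field K] [IsAlgClosed K]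
    {β : Spec (CommRingCat.of K) ⟶ S} (g : tb β K ⟶ G) :
    ∃ z : tb β K ⟶ G, (∀ (X' : Over S) (x : X' ⟶ tb β K) (h : X' ⟶ G), (x ≫ z) * h = h * (x ≫ z)) ∧
      (z⁻¹ * g) ≫ f = 1 := by
  obtain ⟨χN, hχN⟩ := dsPt_surjective (g ≫ f)
  obtain ⟨χ, hχ, hroot⟩ := exists_central_char hN base χN
  refine ⟨tG D (tpt D χ), (DynX.SplitCentre.central_iff (D := D) _).mpr ⟨tpt D χ, rfl, fun a => ?_⟩, ?_⟩
  · have h : D.split.inv.hom.hom ≫ D.split.hom.hom.hom = 𝟙 _ := congrArg (fun z => z.hom.hom) D.split.inv_hom_id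
    rw [tpt, Category.assoc, reassoc_of% h, Red.chi, dsPt_DSmap, ← dsPt_one]
    refine congrArg dsPt (MonoidHom.ext fun k => ?_)
    show χ (Multiplicative.ofAdd (k.toAdd • D.P.root a)) = 1
    rw [ofAdd_zsmul, map_zpow, hroot, one_zpow]
  · rw [MonObj.mul_comp _ _ f, GrpObj.inv_comp _ f, comp_f_torus hl hf, hχ, hχN, inv_mul_cancel]


/-- The unit point over a field as a test object. -/
def oPt (K : Type u) [Field K] : 𝟙_ (Over (Spec (CommRingCat.of K))) ⟶ VecGrp.pt K K :=
  Over.homMk (𝟙 _) (by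
    show 𝟙 _ ≫ Spec.map (CommRingCat.ofHom (algebraMap K K)) = 𝟙 _
    rw [show CommRingCat.ofHom (algebraMap K K) = 𝟙 _ from rfl, Spec.map_id, Category.id_comp])

/-- The other direction. -/
def oInv (K : Type u) [Field K] : VecGrp.pt K K ⟶ 𝟙_ (Over (Spec (CommRingCat.of K))) := toUnit _

theorem oPt_oInv (K : Type u) [Field K] : oInv K ≫ oPt K = 𝟙 _ := by
  refine Over.OverMorphism.ext ?_
  show Spec.map (CommRingCat.ofHom (algebraMap K K)) ≫ 𝟙 _ = 𝟙 _
  rw [show CommRingCat.ofHom (algebraMap K K) = 𝟙 _ from rfl, Spec.map_id, Category.id_comp]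

include hN hd in
/-- The geometric fibres of the kernel are reductive. -/
theorem reductiveOver_fibre (base : D.P.Base) (hl : PosList D (-φ) l)
    (hf : RedSub.cellMap D l l' ≫ f = cellChar D N n m) (hsm : Smooth D'.hom) (hconn : RedSub.HasConnectedFibres D')
    (s : S) : Red.IsReductiveOver (AlgebraicClosure (S.residueField s)) (Red.geomFibre s D') := by
  let K := AlgebraicClosure (S.residueField s)
  let β : Spec (CommRingCat.of K) ⟶ S := Red.geomPt s
  haveI := mono_kernel d hd
  haveI := isClosedImmersion_kernel d hd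
  let dK : GK β D' ⟶ GK β G := (Over.pullback β).map d
  haveI : IsClosedImmersion dK.left :=
    MorphismProperty.baseChange_map β d (inferInstance : IsClosedImmersion d.left)
  haveI : IsAffine (GK β D').left := isAffine_of_isAffineHom dK.left
  have hsmK : Smooth (Red.geomFibre s D').hom := inferInstanceAs (Smooth (pullback.snd D'.hom β))
  refine ⟨inferInstanceAs (IsAffine (GK β D').left), hsmK, connectedSpace_geomFibre η[D'] s (hconn s), ?_⟩
  intro U _ i _ hic hUs hUc hnorm hnt
  haveI := hic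
  haveI : Smooth G.hom := D.reductive.2.1
  haveI : Smooth (GK β G).hom := inferInstanceAs (Smooth (pullback.snd G.hom β))
  haveI : IsMonHom dK := inferInstanceAs (IsMonHom ((Over.pullback β).map d))
  haveI : IsClosedImmersion (i ≫ dK).left := inferInstanceAs (IsClosedImmersion (i.left ≫ dK.left))
  refine (D.reductive.2.2 s).2.2.2 U (i ≫ dK) inferInstance hUs hUc ?_ hnt
  refine AlgGrp25.LinPart.isNormalHom_of_points (i ≫ dK) fun g => ?_
  obtain ⟨g', hg'⟩ := liftPt_bijective.2 (oInv K ≫ g : VecGrp.pt K K ⟶ GK β G)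
  obtain ⟨z, hz, hzf⟩ := exists_central_translate hN base hl hf g'
  obtain ⟨q, hq⟩ := exists_factor d hd _ hzf
  let qK : 𝟙_ (Over (Spec (CommRingCat.of K))) ⟶ GK β D' := oPt K ≫ liftPt q
  let zK : 𝟙_ (Over (Spec (CommRingCat.of K))) ⟶ GK β G := oPt K ≫ liftPt z
  have hqK : liftPt q ≫ dK = liftPt (q ≫ d) :=
    (DSPtsLib.theta_bijective β).1 (by rw [theta_map, theta_liftPt, theta_liftPt])
  have hg : g = zK * (qK ≫ dK) := by
    rw [Category.assoc, hqK, ← MonObj.comp_mul, ← liftPt_mul, hq, mul_inv_cancel_left, hg', ← Category.assoc,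
      toUnit_unique (oPt K ≫ oInv K) (𝟙 _), Category.id_comp]
  have hzc : ∀ {X : Over (Spec (CommRingCat.of K))} (x : X ⟶ GK β G),
      (toUnit X ≫ zK) * x = x * (toUnit X ≫ zK) := fun {X} x => by
    refine (DSPtsLib.theta_bijective β).1 ?_
    rw [DSPtsLib.theta_mul, DSPtsLib.theta_mul, ← Category.assoc, DSPtsLib.theta_comp, theta_liftPt]
    exact hz _ _ _
  obtain ⟨n', hn'⟩ := hnorm U (toUnit U ≫ qK) (𝟙 U)
  rw [Category.id_comp] at hn'
  refine ⟨n', ?_⟩
  rw [← Category.assoc, ← hn', MonObj.mul_comp _ _ dK, MonObj.mul_comp _ _ dK, GrpObj.inv_comp _ dK,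
    AlgGrp25.LinPart.comp_conj, hg, MonObj.comp_mul, Category.assoc]
  rw [hzc, _root_.mul_assoc (toUnit U ≫ qK ≫ dK) (toUnit U ≫ zK)]
  rw [show (toUnit U ≫ zK) * (i ≫ dK) = (i ≫ dK) * (toUnit U ≫ zK) from hzc _]
  group

include hd in
/-- The inclusion of the torus of the derived group. -/
theorem exists_derTorus {φ' : D.M →+ ℤ} (hl : PosList D (-φ') l)
    (hf : RedSub.cellMap D l l' ≫ f = cellChar D N n m) :
    ∃ i' : Red.DS S (D.M ⧸ N) ⟶ D', i' ≫ d = Red.DSmap S (QuotientAddGroup.mk' N) ≫ D.split.inv.hom.hom ≫ D.i := by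
  refine exists_factor d hd _ (hom_ext_of_pts fun A _ b q => ?_)
  obtain ⟨χ, rfl⟩ := dsPt_surjective q
  rw [MonObj.comp_one, ← Category.assoc, ← Category.assoc, dsPt_DSmap, ← Category.assoc,
    show (dsPt _ : tb b A ⟶ Red.DS S D.M) ≫ D.split.inv.hom.hom = tpt D _ from rfl]
  show tG D (tpt D _) ≫ f = 1
  rw [comp_f_torus hl hf, ← dsPt_one]
  refine congrArg dsPt (MonoidHom.ext fun k => ?_)
  show χ (Multiplicative.ofAdd (QuotientAddGroup.mk' N ((k.toAdd : ↥N) : D.M))) = 1
  rw [show QuotientAddGroup.mk' N ((k.toAdd : ↥N) : D.M) = 0 from (QuotientAddGroup.eq_zero_iff _).mpr (k.toAdd).2,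
    ofAdd_zero, map_one]

end Groth.Agent.DerivedSplit22
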