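import Groth.Agent.Reduced22.DerivedKilled
import Groth.Agent.GrpSchLib.GaPts

/-!
# The kernel of the projection to the torus of characters killed by the coroots
-/

set_option autoImplicit false
set_option linter.unusedSectionVars false
set_option linter.style.haveILetI false

universe u

open CategoryTheory CategoryTheory.Limits AlgebraicGeometry MonoidalCategory CartesianMonoidalCategory
open MonObj GrpObj

noncomputable section

namespace Groth.Agent.DerivedKer22

open Groth.Agent.RedCell22 Groth.Agent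

variable {S : Scheme.{u}} {G : Over S} [GrpObj G] [IsAffineHom G.hom] {D : Red.SplitRed G} {n m : ℕ}
variable {N : AddSubgroup D.M}

theorem w_apply {X Y : Over S} (g : X ⟶ Y) (x : ↥X.left) : Y.hom (g.left x) = X.hom x := by
  rw [← Scheme.Hom.comp_apply, Over.w]

theorem sec_apply {Y : Over S} (g : 𝟙_ (Over S) ⟶ Y) (s : S) : Y.hom (g.left s) = s :=
  (w_apply g s).trans rfl

/-- A projection of the cell onto the cell of the derived group. -/
def cellRetr (D : Red.SplitRed G) (N : AddSubgroup D.M) (σ : D.M ⧸ N →+ D.M) (n m : ℕ) :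
    CellSrc D n m ⟶ DerSrc (D := D) N n m :=
  lift (fst _ _) (lift (snd _ _ ≫ fst _ _ ≫ D.split.hom.hom.hom ≫ Red.DSmap S σ) (snd _ _ ≫ snd _ _))

theorem derIncl_cellRetr {σ : D.M ⧸ N →+ D.M}
    (hσ : (QuotientAddGroup.mk' N).comp σ = AddMonoidHom.id _) :
    derIncl D N n m ≫ cellRetr D N σ n m = 𝟙 _ := by
  have h : D.split.inv.hom.hom ≫ D.split.hom.hom.hom = 𝟙 _ := congrArg (fun z => z.hom.hom) D.split.inv_hom_id
  have hc : Red.DSmap S (QuotientAddGroup.mk' N) ≫ Red.DSmap S σ = 𝟙 (Red.DS S (D.M ⧸ N)) := by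
    rw [← Red23Lib.Pinned.DSmap_comp, hσ, Sga3xB.DSmap_id]
  refine hom_ext _ _ ?_ (hom_ext _ _ ?_ ?_)
  · simp [derIncl, cellRetr]
  · simp [derIncl, cellRetr, reassoc_of% h, hc]
  · simp [derIncl, cellRetr]

/-- The quotient by the characters killed by all coroots is free. -/
theorem free_quotient (hN : ∀ x : D.M, x ∈ N ↔ ∀ a : D.idx, D.P.coroot a x = 0) : Module.Free ℤ (D.M ⧸ N) := by
  let j : D.M →+ (D.idx → ℤ) := AddMonoidHom.mk' (fun m a => D.P.coroot a m) fun m m' => funext fun a => map_add _ _ _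
  have hle : N ≤ j.ker := fun x hx => funext fun a => (hN x).mp hx a
  let J := QuotientAddGroup.lift N j hle
  have hJ : Function.Injective J := (injective_iff_map_eq_zero J).mpr fun q hq => by
    obtain ⟨x, rfl⟩ := QuotientAddGroup.mk'_surjective N q
    exact (QuotientAddGroup.eq_zero_iff x).mpr ((hN x).mpr fun a => congrFun hq a)
  haveI : Module.IsTorsionFree ℤ (D.M ⧸ N) :=
    Function.Injective.moduleIsTorsionFree J hJ (fun r x => map_zsmul J r x)
  haveI : Module.Finite ℤ (D.M ⧸ N) :=
    Module.Finite.of_surjective (QuotientAddGroup.mk' N).toIntLinearMap (QuotientAddGroup.mk'_surjective N)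
  infer_instance

theorem finite_quotient (N : AddSubgroup D.M) : Module.Finite ℤ (D.M ⧸ N) :=
  Module.Finite.of_surjective (QuotientAddGroup.mk' N).toIntLinearMap (QuotientAddGroup.mk'_surjective N)

theorem exists_section_quotient (hN : ∀ x : D.M, x ∈ N ↔ ∀ a : D.idx, D.P.coroot a x = 0) :
    ∃ σ : D.M ⧸ N →+ D.M, (QuotientAddGroup.mk' N).comp σ = AddMonoidHom.id _ := by
  haveI := free_quotient hN
  obtain ⟨σ, hσ⟩ := Module.projective_lifting_property (QuotientAddGroup.mk' N).toIntLinearMap LinearMap.id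
    (QuotientAddGroup.mk'_surjective N)
  exact ⟨σ.toAddMonoidHom, AddMonoidHom.ext fun x => LinearMap.congr_fun hσ x⟩

theorem smooth_derSrc (hN : ∀ x : D.M, x ∈ N ↔ ∀ a : D.idx, D.P.coroot a x = 0) :
    Smooth (DerSrc (D := D) N n m).hom := by
  haveI := free_quotient hN
  haveI := finite_quotient N
  haveI : Smooth (RedSub.pow (Red.Ga S) n).hom := inferInstance
  haveI : Smooth (RedSub.pow (Red.Ga S) m).hom := inferInstance
  haveI : Smooth (Red.DS S (D.M ⧸ N)).hom := smooth_ds _
  infer_instance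

variable {φ : D.M →+ ℤ} {l : Fin n → D.idx} {l' : Fin m → D.idx}

/-- The set-theoretic fibres of the cell of the derived group are connected. -/
theorem connected_derSrc_fibre (hl : PosList D (-φ) l) (hl' : PosList D φ l') (hreg : ∀ r, φ (D.P.root r) ≠ 0)
    (hN : ∀ x : D.M, x ∈ N ↔ ∀ a : D.idx, D.P.coroot a x = 0) (s : S) :
    _root_.IsConnected ((DerSrc (D := D) N n m).hom.base ⁻¹' {s}) := by
  haveI := isOpenImmersion_cell hl hl' hreg
  let cm := RedSub.cellMap D l l'
  let K := AlgebraicClosure (S.residueField s)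
  let β : Spec (CommRingCat.of K) ⟶ S :=
    Spec.map (CommRingCat.ofHom (algebraMap (S.residueField s) K)) ≫ S.fromSpecResidueField s
  have hβ : Set.range β = {s} := by
    ext y
    constructor
    · rintro ⟨z, rfl⟩
      simp only [β, Scheme.Hom.comp_apply]
      exact Set.mem_singleton_iff.mpr (Scheme.fromSpecResidueField_apply s _)
    · intro h
      refine ⟨IsLocalRing.closedPoint K, ?_⟩
      rw [Set.mem_singleton_iff.mp h]
      simp only [β, Scheme.Hom.comp_apply]
      exact Scheme.fromSpecResidueField_apply s _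
  haveI : IrreducibleSpace ↥(Red.bc β G).left := GrpSchLib.RankOne.irreducible_fibre D.reductive β
  have hG : IsIrreducible (G.hom ⁻¹' {s}) := by
    have h := (IrreducibleSpace.isIrreducible_univ ↥(Red.bc β G).left).image (pullback.fst G.hom β)
      (pullback.fst G.hom β).continuous.continuousOn
    rw [Set.image_univ] at h
    erw [Scheme.Pullback.range_fst, hβ] at h
    exact h
  have hC : _root_.IsConnected ((CellSrc D n m).hom ⁻¹' {s}) := by
    refine ⟨?_, ?_⟩
    · let e : 𝟙_ (Over S) ⟶ CellSrc D n m :=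
        lift (Red23Lib.Pinned.tuple fun _ => (1 : 𝟙_ (Over S) ⟶ Red.Ga S))
          (lift (1 : 𝟙_ (Over S) ⟶ D.T) (Red23Lib.Pinned.tuple fun _ => (1 : 𝟙_ (Over S) ⟶ Red.Ga S)))
      exact ⟨e.left s, sec_apply e s⟩
    · have h : (CellSrc D n m).hom ⁻¹' {s} = cm.left ⁻¹' (G.hom ⁻¹' {s}) := by
        ext z
        show (CellSrc D n m).hom z = s ↔ G.hom (cm.left z) = s
        rw [w_apply cm z]
      rw [h]
      exact (hG.2.preimage cm.left.isOpenEmbedding).isPreconnected
  obtain ⟨σ, hσ⟩ := exists_section_quotient hN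
  let r := cellRetr D N σ n m
  have him : r.left '' ((CellSrc D n m).hom ⁻¹' {s}) = (DerSrc (D := D) N n m).hom ⁻¹' {s} := by
    ext z
    constructor
    · rintro ⟨y, hy, rfl⟩
      exact (w_apply r y).trans hy
    · intro hz
      refine ⟨(derIncl D N n m).left z, (w_apply (derIncl D N n m) z).trans hz, ?_⟩
      have := congrArg (fun q => q.left.base z) (derIncl_cellRetr (n := n) (m := m) hσ)
      simpa using this
  rw [← him]
  exact hC.image r.left r.left.continuous.continuousOn

/-- The unit coordinate. -/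
def oneSec (S : Scheme.{u}) : 𝟙_ (Over S) ⟶ Red.Ga S := GrpSchLib.GaPts.ptOfFn 1

theorem isUnit_oneSec : IsUnit (Red.gaFn (oneSec S)) := by
  rw [oneSec, GrpSchLib.GaPts.gaFn_ptOfFn]
  exact isUnit_one

/-- The sections used to cover the group by translates of the cell. -/
def genSet (D : Red.SplitRed G) (base : D.P.Base) : Set (𝟙_ (Over S) ⟶ G) :=
  {g | ∃ a ∈ base.support, g = oneSec S ≫ D.u a}

/-- The kernel of the projection is smooth with connected fibres and is killed by commutative groups. -/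
theorem kernel_props (base : D.P.Base) (hφ : ∀ c ∈ base.support, 0 < φ (D.P.root c))
    (hl : PosList D (-φ) l) (hl' : PosList D φ l')
    (hN : ∀ x : D.M, x ∈ N ↔ ∀ a : D.idx, D.P.coroot a x = 0) {f : G ⟶ Red.DS S ↥N} [IsMonHom f]
    (hf : RedSub.cellMap D l l' ≫ f = cellChar D N n m) (K : Over S) [GrpObj K] (k : K ⟶ G) [IsMonHom k]
    (hk : AlgGrp.IsKernel k f) :
    Smooth K.hom ∧ RedSub.HasConnectedFibres K ∧ RedSub.KilledByCommutative k := by
  have hreg : ∀ r, φ (D.P.root r) ≠ 0 := fun r => (mem_posRoots_iff D.P base hφ r).2.2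
  haveI := isOpenImmersion_cell hl hl' hreg
  let cm := RedSub.cellMap D l l'
  let DI := derIncl D N n m
  obtain ⟨σ, hσ⟩ := exists_section_quotient hN
  have hDI := derIncl_cellRetr (n := n) (m := m) hσ
  have hpb : IsPullback k (toUnit K) f η[Red.DS S ↥N] := hk
  have hkf : k ≫ f = 1 := hpb.w.trans Hom.one_def.symm
  have hlift : ∀ {X : Over S} (g : X ⟶ G), g ≫ f = 1 → ∃ p : X ⟶ K, p ≫ k = g := fun {X} g hg =>
    ⟨hpb.lift g (toUnit X) (hg.trans Hom.one_def), hpb.lift_fst _ _ _⟩
  have hinj : ∀ {X : Over S} {p q : X ⟶ K}, p ≫ k = q ≫ k → p = q :=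
    fun {X} {p q} h => hpb.hom_ext h (toUnit_unique _ _)
  have hcomm : ∀ (X : Over S) (a b : X ⟶ Red.DS S ↥N), a * b = b * a := fun X a b =>
    Red23Lib.Pinned.dsCh_ext fun z => by
      rw [Red23Lib.Pinned.dsCh_mul, Red23Lib.Pinned.dsCh_mul, _root_.mul_comm]
  let W := Submonoid.closure (genSet D base)
  have hW : ∀ {Q : Over S} [GrpObj Q] (f' : G ⟶ Q) [IsMonHom f'],
      (∀ (X : Over S) (a b : X ⟶ Q), a * b = b * a) → ∀ w ∈ W, w ≫ f' = 1 := by
    intro Q _ f' _ hQ w hw
    induction hw using Submonoid.closure_induction with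
    | mem g hg =>
      obtain ⟨a, -, rfl⟩ := hg
      refine hom_ext_of_pts fun A _ b q => ?_
      rw [← Category.assoc, ← Category.assoc, ← gaPt_gaFn (q ≫ oneSec S), MonObj.comp_one]
      exact ua_killed hQ a _
    | one => exact MonObj.one_comp f'
    | mul a b _ _ ha hb => rw [MonObj.mul_comp _ _ f', ha, hb, _root_.mul_one]
  -- the translates
  let C : (𝟙_ (Over S) ⟶ G) → (CellSrc D n m ⟶ G) := fun w => (toUnit _ ≫ w) * cm
  have hCf : ∀ w ∈ W, C w ≫ f = cellChar D N n m := fun w hw => by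
    rw [MonObj.mul_comp _ _ f, Category.assoc, hW f hcomm w hw, MonObj.comp_one, hf, _root_.one_mul]
  have hDC : ∀ w ∈ W, (DI ≫ C w) ≫ f = 1 := fun w hw => by
    rw [Category.assoc, hCf w hw, derIncl_cellChar]
  have hex : ∀ w : W, ∃ ι' : DerSrc (D := D) N n m ⟶ K, ι' ≫ k = DI ≫ C w.1 :=
    fun w => hlift _ (hDC w.1 w.2)
  choose iw hiw using hex
  have hopen : ∀ w : W, IsOpenImmersion (iw w).left := by
    intro w
    have hexl : ∀ s : PullbackCone (C w.1) k, ∃ p : s.pt ⟶ DerSrc (D := D) N n m, p ≫ DI = s.fst := by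
      intro s
      refine exists_derIncl s.fst ?_
      rw [← hCf w.1 w.2, ← Category.assoc, s.condition, Category.assoc, hkf, MonObj.comp_one]
    choose L hL using hexl
    have hsq : IsPullback DI (iw w) (C w.1) k := ⟨⟨(hiw w).symm⟩,
      ⟨PullbackCone.IsLimit.mk (hiw w).symm L hL
        (fun s => hinj (by rw [Category.assoc, hiw, ← Category.assoc, hL, s.condition]))
        (fun s p h1 _ => by
          have := congrArg (· ≫ cellRetr D N σ n m) (h1.trans (hL s).symm)
          simpa [DI, Category.assoc, hDI] using this)⟩⟩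
    have hC : IsOpenImmersion (C w.1).left := by
      rw [show C w.1 = cm ≫ (leftTrans w.1).hom from (comp_leftTrans _ _).symm]
      haveI : IsIso (leftTrans w.1).hom.left := (inferInstance : IsIso ((Over.forget S).map (leftTrans w.1).hom))
      show IsOpenImmersion (_ ≫ (leftTrans w.1).hom.left)
      infer_instance
    exact MorphismProperty.of_isPullback (P := @IsOpenImmersion) (hsq.map (Over.forget S)) hC
  have hcov : ∀ y : ↥K.left, ∃ (w : W) (z : ↥(DerSrc (D := D) N n m).left), (iw w).left z = y := by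
    intro y
    obtain ⟨L, _, _, β, q, hq⟩ := exists_geom_point y
    obtain ⟨w, hw, hO⟩ := exists_translate (b := β) base hφ W (fun a ha h x hh => by
      obtain ⟨c, hc, -, hxc⟩ := exists_coord_const (K := L) (oneSec S) β isUnit_oneSec
      rcases inOmega_mul_root_unit base ha hφ hh x hc with h1 | h1
      · exact ⟨1, one_mem W, by rw [MonObj.comp_one, inv_one, _root_.one_mul]; exact h1⟩
      · exact ⟨oneSec S ≫ D.u a, Submonoid.subset_closure ⟨a, ha, rfl⟩, by
          rw [← Category.assoc, hxc]; exact h1⟩) (q ≫ k)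
    obtain ⟨p, hp⟩ := hO.exists_cellPt hl hl'
    have hp' : p ≫ C w = q ≫ k := by
      show p ≫ ((toUnit _ ≫ w) * cm) = _
      rw [comp_const_mul, hp, mul_inv_cancel_left]
    obtain ⟨p', hp''⟩ := exists_derIncl p (N := N) (by
      rw [← hCf w hw, ← Category.assoc, hp', Category.assoc, hkf, MonObj.comp_one])
    have he : p' ≫ iw ⟨w, hw⟩ = q := hinj (by rw [Category.assoc, hiw, ← Category.assoc, hp'', hp'])
    exact ⟨⟨w, hw⟩, p'.left (IsLocalRing.closedPoint L), by rw [← hq, ← he]; rfl⟩
  let 𝒰 : K.left.OpenCover := K.left.openCoverOfIsOpenCover (fun w : W => haveI := hopen w; (iw w).left.opensRange)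
    (TopologicalSpace.IsOpenCover.mk (top_le_iff.mp fun y _ => by
      obtain ⟨w, z, rfl⟩ := hcov y
      exact TopologicalSpace.Opens.mem_iSup.mpr ⟨w, z, rfl⟩))
  refine ⟨?_, fun s => ?_, fun Q _ f' _ hQ => ?_⟩
  · refine (IsZariskiLocalAtSource.iff_of_openCover (P := @Smooth) 𝒰).mpr fun w => ?_
    haveI := hopen w
    show Smooth ((iw w).left.opensRange.ι ≫ K.hom)
    haveI := smooth_derSrc (n := n) (m := m) hN
    rw [show (iw w).left.opensRange.ι = (iw w).left.isoOpensRange.inv ≫ (iw w).left from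
      (Scheme.Hom.isoOpensRange_inv_comp _).symm, Category.assoc, Over.w]
    infer_instance
  · let F := K.hom.base ⁻¹' {s}
    let P : W → Set ↥K.left := fun w => (iw w).left '' ((DerSrc (D := D) N n m).hom.base ⁻¹' {s})
    have hP : ∀ w, _root_.IsConnected (P w) := fun w =>
      (connected_derSrc_fibre hl hl' hreg hN s).image _ (iw w).left.continuous.continuousOn
    have hPF : ∀ w, P w ⊆ F := by
      rintro w _ ⟨z, hz, rfl⟩
      exact (w_apply (iw w) z).trans hz
    have hcell : ∀ u : 𝟙_ (Over S) ⟶ G, u ≫ f = 1 → Set.range u.left ⊆ Set.range cm.left →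
        ∃ pu : 𝟙_ (Over S) ⟶ DerSrc (D := D) N n m, pu ≫ DI ≫ cm = u := fun u hu hr => by
      obtain ⟨y, hy⟩ := exists_lift_range cm u hr
      obtain ⟨pu, hpu⟩ := exists_derSrc hf y hy hu
      exact ⟨pu, hpu.symm⟩
    obtain ⟨p1, hp1⟩ := hcell 1 (MonObj.one_comp f) (range_one_subset hl hl')
    have hmem : ∀ (w : W) (pu : 𝟙_ (Over S) ⟶ DerSrc (D := D) N n m), (pu ≫ iw w).left s ∈ P w := fun w pu =>
      ⟨pu.left s, sec_apply pu s, rfl⟩
    let x₀ := (p1 ≫ iw 1).left s
    have hcomp : ∀ (w : 𝟙_ (Over S) ⟶ G) (hw : w ∈ W), P ⟨w, hw⟩ ⊆ connectedComponentIn F x₀ := by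
      intro w hw
      induction hw using Submonoid.closure_induction_right with
      | one => exact (hP _).isPreconnected.subset_connectedComponentIn (hmem _ p1) (hPF _)
      | mul_right w hw u hu ih =>
        obtain ⟨a, ha, rfl⟩ := hu
        have hwu : w * (oneSec S ≫ D.u a) ∈ W := mul_mem hw (Submonoid.subset_closure ⟨a, ha, rfl⟩)
        obtain ⟨pu, hpu⟩ := hcell (oneSec S ≫ D.u a) (hW f hcomm _ (Submonoid.subset_closure ⟨a, ha, rfl⟩)) (by
          rintro _ ⟨z, rfl⟩
          obtain ⟨L, _, _, β, q, hq⟩ := exists_geom_point (X := 𝟙_ (Over S)) z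
          have hO : InOmega D φ (q ≫ oneSec S ≫ D.u a) := ⟨1, 1, _, Cochar.hasLimOne_one _,
            hasLimOne_ua D (hφ a ha) (gs (Red.gaFn (q ≫ oneSec S))), by
              rw [tG_one, _root_.one_mul, _root_.one_mul, ua, gaPt_gaFn, Category.assoc]⟩
          obtain ⟨p, hp⟩ := hO.exists_cellPt hl hl'
          rw [← hq]
          exact mem_range_of_lift _ p hp)
        have e : pu ≫ iw ⟨w, hw⟩ = p1 ≫ iw ⟨_, hwu⟩ := hinj (by
          rw [Category.assoc, Category.assoc, hiw, hiw]
          show pu ≫ DI ≫ ((toUnit _ ≫ w) * cm) = p1 ≫ DI ≫ ((toUnit _ ≫ _) * cm)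
          rw [← Category.assoc, ← Category.assoc, comp_const_mul, comp_const_mul, Category.assoc, Category.assoc, hpu,
            hp1, toUnit_unique (toUnit (𝟙_ (Over S))) (𝟙 _), Category.id_comp, Category.id_comp, _root_.mul_one])
        have h1 : (p1 ≫ iw ⟨_, hwu⟩).left s ∈ connectedComponentIn F x₀ := by
          rw [← e]
          exact ih (hmem _ pu)
        rw [connectedComponentIn_eq h1]
        exact (hP _).isPreconnected.subset_connectedComponentIn (hmem _ p1) (hPF _)
    have hx₀ : x₀ ∈ F := hPF _ (hmem _ p1)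
    have hFeq : F = connectedComponentIn F x₀ := Set.Subset.antisymm (fun y hy => by
      obtain ⟨w, z, rfl⟩ := hcov y
      exact hcomp w.1 w.2 ⟨z, (w_apply (iw w) z).symm.trans hy, rfl⟩)
      (connectedComponentIn_subset F x₀)
    show _root_.IsConnected F
    rw [hFeq]
    exact isConnected_connectedComponentIn_iff.mpr hx₀
  · refine Over.OverMorphism.ext (𝒰.hom_ext _ _ fun w => ?_)
    haveI := hopen w
    show (iw w).left.opensRange.ι ≫ _ = (iw w).left.opensRange.ι ≫ _
    rw [show (iw w).left.opensRange.ι = (iw w).left.isoOpensRange.inv ≫ (iw w).left from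
      (Scheme.Hom.isoOpensRange_inv_comp _).symm, Category.assoc, Category.assoc]
    congr 1
    show (iw w ≫ k ≫ f').left = (iw w ≫ (1 : K ⟶ Q)).left
    congr 1
    rw [← Category.assoc, hiw, MonObj.comp_one, Category.assoc, MonObj.mul_comp _ _ f', Category.assoc,
      hW f' hQ w.1 w.2, MonObj.comp_one, _root_.one_mul]
    refine hom_ext_of_pts fun A _ b q => ?_
    rw [MonObj.comp_one, ← Category.assoc DI cm f', derIncl_cellMap, MonObj.mul_comp _ _ f', MonObj.mul_comp _ _ f',
      MonObj.comp_mul, MonObj.comp_mul]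
    simp only [Category.assoc, derTorus_killed hQ base N hN, MonObj.comp_one, _root_.one_mul]
    have hpm : ∀ {p : ℕ} (e : Fin p → D.idx) (y : tb b A ⟶ RedSub.pow (Red.Ga S) p),
        y ≫ RedSub.prodMap (Red.Ga S) p (fun i => D.u (e i)) ≫ f' = 1 := fun e y => by
      rw [← powPt_powCoord y, ← Category.assoc, powPt_prodMap, word_killed hQ]
    rw [← Category.assoc q, hpm, ← Category.assoc q, ← Category.assoc (q ≫ _), hpm, _root_.one_mul]

end Groth.Agent.DerivedKer22
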