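import Groth.Agent.RedCell22.CorootMem
import Groth.Agent.RedCell22.DerivedCell
import Groth.Agent.RedCell22.BruhatImmersion
import Groth.Agent.RedCell22.Generation
import Groth.Agent.RedCell22.SimpleForm
import Groth.Agent.RedCell22.RankOneCover
import Groth.Agent.RedCell22.Models
import Groth.Agent.RedCell22.BorelFibre
import Groth.Agent.Sga3xB.DS
import Mathlib.AlgebraicGeometry.Morphisms.Flat

/-!
# Homomorphisms to commutative groups kill the root groups and the coroots
-/

set_option autoImplicit false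
set_option linter.unusedSectionVars false
set_option linter.style.haveILetI false

universe u

open CategoryTheory CategoryTheory.Limits AlgebraicGeometry MonoidalCategory CartesianMonoidalCategory
open MonObj GrpObj Polynomial

noncomputable section

namespace Groth.Agent.DerivedKer22

open Groth.Agent.RedCell22 Groth.Agent

/-- Any ring has a faithfully flat extension with a unit `z` such that `z² - 1` is a unit. -/
theorem exists_ext (A : Type u) [CommRing A] [Nontrivial A] :
    ∃ (C : Type u) (_ : CommRing C) (_ : Algebra A C) (_ : Module.FaithfullyFlat A C) (z e : Cˣ),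
      (z : C) * z - 1 = e := by
  let P : A[X] := X ^ 2 - (X + Polynomial.C 1)
  have hd : (X + Polynomial.C (1 : A)).degree < ((2 : ℕ) : WithBot ℕ) := by
    rw [degree_X_add_C]; exact_mod_cast one_lt_two
  have hP : P.Monic := monic_X_pow_sub hd
  let C := AdjoinRoot P
  have hdeg : P.natDegree = 2 := by
    have h : P.degree = (2 : ℕ) := by
      rw [show P = X ^ 2 - (X + Polynomial.C 1) from rfl, degree_sub_eq_left_of_degree_lt (by rwa [degree_X_pow]),
        degree_X_pow]
    exact natDegree_eq_of_degree_eq_some h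
  haveI : Module.Free A C :=
    Module.Free.of_basis (AdjoinRoot.powerBasis' hP).basis
  haveI : Nontrivial C := by
    haveI : Nonempty (Fin (AdjoinRoot.powerBasis' hP).dim) := ⟨⟨0, by rw [AdjoinRoot.powerBasis'_dim, hdeg]; omega⟩⟩
    exact (AdjoinRoot.powerBasis' hP).basis.repr.toEquiv.nontrivial
  let r : C := AdjoinRoot.root P
  have h0 : r ^ 2 - (r + 1) = 0 := by
    have := AdjoinRoot.eval₂_root P
    simpa [P] using this
  let z : Cˣ := ⟨r, r - 1, by linear_combination h0, by linear_combination h0⟩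
  exact ⟨C, inferInstance, inferInstance, inferInstance, z, z, by
    show r * r - 1 = r
    linear_combination h0⟩

variable {S : Scheme.{u}} {G : Over S} [GrpObj G] [IsAffineHom G.hom] {D : Red.SplitRed G}
variable {Q : Over S} [GrpObj Q] {f : G ⟶ Q} [IsMonHom f]

theorem epi_tm {A : Type u} [CommRing A] {b : Spec (CommRingCat.of A) ⟶ S} (C : Type u) [CommRing C] [Algebra A C]
    [Module.FaithfullyFlat A C] : Epi (tm b (Algebra.ofId A C) : tb b C ⟶ tb b A) := by
  haveI : Flat (Spec.map (CommRingCat.ofHom (algebraMap A C))) := by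
    rw [HasRingHomProperty.Spec_iff (P := @Flat)]
    exact RingHom.flat_algebraMap_iff.mpr inferInstance
  haveI : Surjective (Spec.map (CommRingCat.ofHom (algebraMap A C))) :=
    ⟨PrimeSpectrum.comap_surjective_of_faithfullyFlat⟩
  haveI : Epi (tm b (Algebra.ofId A C) : tb b C ⟶ tb b A).left :=
    Flat.epi_of_flat_of_surjective (Spec.map (CommRingCat.ofHom (algebraMap A C)))
  exact Over.epi_of_epi_left _

/-- A homomorphism to a commutative group is trivial on the root groups. -/
theorem ua_killed (hQ : ∀ (X : Over S) (a b : X ⟶ Q), a * b = b * a) {A : Type u} [CommRing A]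
    {b : Spec (CommRingCat.of A) ⟶ S} (a : D.idx) (x : A) : (ua D a x : tb b A ⟶ G) ≫ f = 1 := by
  rcases subsingleton_or_nontrivial A with h | h
  · haveI : IsEmpty ↥(tb b A).left := inferInstanceAs (IsEmpty (PrimeSpectrum A))
    exact Over.OverMorphism.ext ((isInitialOfIsEmpty (X := (tb b A).left)).hom_ext _ _)
  obtain ⟨C, _, _, _, z, e, hze⟩ := exists_ext A
  haveI := epi_tm (b := b) C
  rw [← cancel_epi (tm b (Algebra.ofId A C)), ← Category.assoc, ua_map, MonObj.comp_one]
  let τ : tb b C ⟶ D.T := tpt D (RedCell22.coVal D (D.P.coroot a).toAddMonoidHom z)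
  let w : C := ((e⁻¹ : Cˣ) : C) * Algebra.ofId A C x
  have hτ : (chr D (D.P.root a) τ : C) = (z : C) * z := by
    rw [chr_tpt, RedCell22.coVal_apply]
    show ((z ^ (D.P.coroot a (D.P.root a)) : Cˣ) : C) = _
    rw [coroot_root, D.P.pairing_same, show (2 : ℤ) = 1 + 1 from rfl, zpow_add, zpow_one, Units.val_mul]
  have h1 : (ua D a ((z : C) * z * w) : tb b C ⟶ G) ≫ f = ua D a w ≫ f := by
    rw [← hτ, ← conj_ua, MonObj.mul_comp _ _ f, MonObj.mul_comp _ _ f, hQ _ (tG D τ ≫ f), _root_.mul_assoc,
      ← MonObj.mul_comp _ _ f, mul_inv_cancel, MonObj.one_comp f, _root_.mul_one]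
  rw [show Algebra.ofId A C x = (z : C) * z * w + -w by
      rw [show (z : C) * z * w + -w = ((z : C) * z - 1) * w by ring, hze]
      simp [w],
    ua_add, MonObj.mul_comp _ _ f, h1, ← MonObj.mul_comp _ _ f, ← ua_add, add_neg_cancel, ua_zero, MonObj.one_comp f]

/-- A homomorphism to a commutative group is trivial on the products of root groups. -/
theorem word_killed (hQ : ∀ (X : Over S) (a b : X ⟶ Q), a * b = b * a) {A : Type u} [CommRing A]
    {b : Spec (CommRingCat.of A) ⟶ S} {k : ℕ} (l : Fin k → D.idx) (x : Fin k → A) :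
    (word D l x : tb b A ⟶ G) ≫ f = 1 :=
  List.prod_induction (fun g : tb b A ⟶ G => g ≫ f = 1) (fun g g' hg hg' => by
      rw [MonObj.mul_comp _ _ f, hg, hg', _root_.mul_one]) (MonObj.one_comp f) fun g hg => by
    obtain ⟨i, rfl⟩ := List.mem_ofFn.mp hg
    exact ua_killed hQ _ _

/-- A homomorphism to a commutative group is trivial on the part of the torus of the derived group. -/
theorem derTorus_killed (hQ : ∀ (X : Over S) (a b : X ⟶ Q), a * b = b * a) (base : D.P.Base)
    (N : AddSubgroup D.M) (hN : ∀ m : D.M, m ∈ N ↔ ∀ a : D.idx, D.P.coroot a m = 0) :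
    Red.DSmap S (QuotientAddGroup.mk' N) ≫ D.split.inv.hom.hom ≫ D.i ≫ f = 1 := by
  classical
  let j : D.M →+ (↥base.support → ℤ) :=
    AddMonoidHom.mk' (fun m a => D.P.coroot a.1 m) fun m m' => funext fun a => map_add _ _ _
  have hker : ∀ m, j m = 0 ↔ m ∈ N := fun m => by
    refine ⟨fun h => (hN m).mpr fun c => ?_, fun h => funext fun a => (hN m).mp h a.1⟩
    have hle : Submodule.span ℤ (D.P.coroot '' (base.support : Set D.idx)) ≤
        LinearMap.ker (Module.Dual.eval ℤ D.M m) := by
      rw [Submodule.span_le]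
      rintro _ ⟨a, ha, rfl⟩
      exact congrFun h ⟨a, ha⟩
    exact hle (base.span_int_coroot_support ▸ Submodule.subset_span ⟨c, rfl⟩)
  have hNj : N ≤ j.ker := fun m hm => (hker m).mpr hm
  let io := QuotientAddGroup.lift N j hNj
  have hio : Function.Injective io := (injective_iff_map_eq_zero io).mpr fun q hq => by
    obtain ⟨m, rfl⟩ := QuotientAddGroup.mk'_surjective N q
    exact (QuotientAddGroup.eq_zero_iff m).mpr ((hker m).mp hq)
  obtain ⟨_, _⟩ := Sga3xB.flat_surjective_DSmap (S := S) io hio
  haveI : Epi (Red.DSmap S io).left := Flat.epi_of_flat_of_surjective _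
  haveI : Epi (Red.DSmap S io) := Over.epi_of_epi_left _
  rw [← cancel_epi (Red.DSmap S io), MonObj.comp_one]
  refine hom_ext_of_pts fun A _ b q => ?_
  obtain ⟨χ, rfl⟩ := dsPt_surjective q
  let H : Subgroup (tb b A ⟶ G) := MonoidHom.ker (MonoidHom.mk' (fun g => g ≫ f) fun g g' => MonObj.mul_comp _ _ f)
  rw [MonObj.comp_one, ← Category.assoc, dsPt_DSmap, ← Category.assoc, dsPt_DSmap, ← Category.assoc, ← Category.assoc]
  show (tG D (tpt D _) : tb b A ⟶ G) ∈ H
  let F : (tb b A ⟶ G) := tG D (tpt D
    (∏ a : ↥base.support, RedCell22.coVal D (D.P.coroot a.1).toAddMonoidHom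
      (χ (Multiplicative.ofAdd (Pi.single a (1 : ℤ))))))
  have hF : F ∈ H := by
    show _ ∈ H.comap ((tGHom D).comp (tHom D))
    exact prod_mem fun a _ => Subgroup.mem_comap.mpr
      (coroot_mem (H := H) base a.2 (fun x => ⟨ua_killed hQ _ x, ua_killed hQ _ x⟩) _)
  convert hF using 4
  refine MonoidHom.ext fun m => ?_
  show χ (Multiplicative.ofAdd (j m.toAdd)) = _
  rw [MonoidHom.finsetProd_apply]
  conv_lhs => rw [← Finset.univ_sum_single (j m.toAdd), ofAdd_sum, map_prod]
  refine Finset.prod_congr rfl fun a _ => ?_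
  conv_rhs => rw [show m = Multiplicative.ofAdd m.toAdd from rfl, RedCell22.coVal_apply]
  rw [
    show (Pi.single a (j m.toAdd a) : ↥base.support → ℤ) = j m.toAdd a • Pi.single a (1 : ℤ) by
      rw [← Pi.single_smul]; simp,
    ofAdd_zsmul, map_zpow]
  rfl

end Groth.Agent.DerivedKer22
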