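import Groth.Agent.RedCell22.CorootMem
import Groth.Agent.RedCell22.Form
import Groth.Agent.Reduced22.DerivedKer
import Groth.Agent.Sga3xB.DS
import Mathlib.LinearAlgebra.Matrix.ToLinearEquiv
import Mathlib.LinearAlgebra.RootSystem.Finite.Nondegenerate

/-!
# The characters killed by the coroots and the quotient root datum
-/

set_option autoImplicit false
set_option linter.unusedSectionVars false
set_option linter.style.haveILetI false

universe u

open CategoryTheory CategoryTheory.Limits AlgebraicGeometry MonoidalCategory CartesianMonoidalCategory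
open MonObj GrpObj

noncomputable section

namespace Groth.Agent.DerivedSplit22

open Groth.Agent.RedCell22 Groth.Agent

variable {S : Scheme.{u}} {G : Over S} [GrpObj G] [IsAffineHom G.hom] {D : Red.SplitRed G}

/-- A combination of roots killed by all coroots vanishes. -/
theorem eq_zero_of_mem_span {x : D.M} (hx : x ∈ Submodule.span ℤ (Set.range D.P.root))
    (h : ∀ a : D.idx, D.P.coroot a x = 0) : x = 0 := by
  haveI : Fintype D.idx := D.fintypeIdx
  refine Submodule.disjoint_def.mp D.P.disjoint_rootSpan_ker_rootForm x hx ?_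
  refine LinearMap.mem_ker.mpr (LinearMap.ext fun y => ?_)
  rw [RootPairing.rootForm_apply_apply]
  refine Finset.sum_eq_zero fun i _ => ?_
  rw [show D.P.coroot' i x = D.P.coroot i x by
    rw [RootPairing.coroot', LinearMap.flip_apply, D.pairing_eq]; rfl, h i, zero_mul]

variable {N : AddSubgroup D.M} (hN : ∀ x : D.M, x ∈ N ↔ ∀ a : D.idx, D.P.coroot a x = 0)

include hN in
/-- A multiple of the projection to the characters killed by the coroots along the roots. -/
theorem exists_proj (base : D.P.Base) :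
    ∃ (E : ℕ) (π : D.M →+ D.M), 0 < E ∧ (∀ x, π x ∈ N) ∧ (∀ x ∈ N, π x = E • x) ∧ ∀ a, π (D.P.root a) = 0 := by
  classical
  let ι' := ↥base.support
  let j : D.M →ₗ[ℤ] (ι' → ℤ) := LinearMap.pi fun a => D.P.coroot a.1
  let C : Matrix ι' ι' ℤ := fun b c => D.P.coroot b.1 (D.P.root c.1)
  let r : (ι' → ℤ) →ₗ[ℤ] D.M := Fintype.linearCombination ℤ fun c : ι' => D.P.root c.1
  have hjr : ∀ v, j (r v) = C.mulVec v := fun v => funext fun b => by
    show D.P.coroot b.1 (r v) = _
    rw [Fintype.linearCombination_apply, map_sum]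
    refine Finset.sum_congr rfl fun c _ => ?_
    rw [map_smul, smul_eq_mul, _root_.mul_comm]
  have hjN : ∀ x, j x = 0 → x ∈ N := fun x hx => (hN x).mpr fun a => by
    have hle : Submodule.span ℤ (D.P.coroot '' (base.support : Set D.idx)) ≤
        LinearMap.ker (Module.Dual.eval ℤ D.M x) := by
      rw [Submodule.span_le]
      rintro _ ⟨c, hc, rfl⟩
      exact congrFun hx ⟨c, hc⟩
    exact hle (base.span_int_coroot_support ▸ Submodule.subset_span ⟨a, rfl⟩)
  have hdet : C.det ≠ 0 := by
    intro h0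
    obtain ⟨v, hv, hv0⟩ := Matrix.exists_mulVec_eq_zero_iff.mpr h0
    refine hv ?_
    have h1 : r v = 0 := eq_zero_of_mem_span
      (by
        rw [Fintype.linearCombination_apply]
        exact Submodule.sum_mem _ fun c _ => Submodule.smul_mem _ _ (Submodule.subset_span ⟨c.1, rfl⟩))
      ((hN _).mp (hjN _ (by rw [hjr, hv0])))
    funext c
    rw [Fintype.linearCombination_apply] at h1
    exact Fintype.linearIndependent_iff.mp
      (base.linearIndepOn_root : LinearIndependent ℤ fun c : ι' => D.P.root c.1) v h1 c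
  let e := C.det
  let π₀ : D.M →ₗ[ℤ] D.M := e • LinearMap.id - r.comp ((Matrix.mulVecLin C.adjugate).comp j)
  have hπ₀ : ∀ x, π₀ x = e • x - r (C.adjugate.mulVec (j x)) := fun x => rfl
  have hπN : ∀ x, π₀ x ∈ N := fun x => hjN _ (by
    rw [hπ₀, map_sub, map_smul, hjr, Matrix.mulVec_mulVec, Matrix.mul_adjugate, Matrix.smul_mulVec,
      Matrix.one_mulVec, sub_self])
  have hπid : ∀ x ∈ N, π₀ x = e • x := fun x hx => by
    rw [hπ₀, show j x = 0 from funext fun a => (hN x).mp hx a.1, Matrix.mulVec_zero, map_zero, sub_zero]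
  have hπroot : ∀ b : ι', π₀ (D.P.root b.1) = 0 := fun b => by
    have hb : r (Pi.single b 1) = D.P.root b.1 := by simp [r]
    rw [← hb, hπ₀, hjr, Matrix.mulVec_mulVec, Matrix.adjugate_mul, Matrix.smul_mulVec, Matrix.one_mulVec, map_smul,
      sub_self]
  have hE : (0 : ℤ) < e * e := mul_self_pos.mpr hdet
  refine ⟨(e * e).toNat, (e • π₀).toAddMonoidHom, by omega, fun x => ?_, fun x hx => ?_, fun a => ?_⟩
  · exact zsmul_mem (hπN x) e
  · show e • π₀ x = _
    rw [hπid x hx, smul_smul, ← natCast_zsmul, Int.toNat_of_nonneg hE.le]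
  · have hle : Submodule.span ℤ (D.P.root '' (base.support : Set D.idx)) ≤ LinearMap.ker (e • π₀) := by
      rw [Submodule.span_le]
      rintro _ ⟨c, hc, rfl⟩
      show (e • π₀) (D.P.root c) = 0
      rw [LinearMap.smul_apply, hπroot ⟨c, hc⟩, smul_zero]
    exact hle (base.span_int_root_support ▸ Submodule.subset_span ⟨a, rfl⟩)

include hN in
/-- A regular form killing the characters killed by the coroots. -/
theorem exists_form_killing (base : D.P.Base) :
    ∃ φ : D.M →+ ℤ, (∀ a ∈ base.support, 0 < φ (D.P.root a)) ∧ ∀ x ∈ N, φ x = 0 := by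
  obtain ⟨φ₀, hφ₀⟩ := exists_form_base D.P base
  obtain ⟨E, π, hE, hπN, hπid, hπroot⟩ := exists_proj hN base
  refine ⟨φ₀.comp (E • AddMonoidHom.id D.M - π), fun a ha => ?_, fun x hx => ?_⟩
  · show 0 < φ₀ (E • D.P.root a - π (D.P.root a))
    rw [hπroot, sub_zero, map_nsmul, nsmul_eq_mul]
    exact mul_pos (by exact_mod_cast hE) (hφ₀ a ha)
  · show φ₀ (E • x - π x) = 0
    rw [hπid x hx, sub_self, map_zero]

include hN in
/-- Over an algebraically closed field a character of the killed lattice is that of a central point of the torus. -/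
theorem exists_central_char {K : Type u} [Field K] [IsAlgClosed K] (base : D.P.Base)
    (χN : Multiplicative ↥N →* Kˣ) :
    ∃ χ : Multiplicative D.M →* Kˣ, χ.comp (AddMonoidHom.toMultiplicative N.subtype) = χN ∧
      ∀ a, χ (Multiplicative.ofAdd (D.P.root a)) = 1 := by
  classical
  obtain ⟨E, π, hE, hπN, hπid, hπroot⟩ := exists_proj hN base
  let NS : Submodule ℤ D.M := AddSubgroup.toIntSubmodule N
  let bN := Module.Free.chooseBasis ℤ ↥NS
  have hroot : ∀ z : Kˣ, ∃ w : Kˣ, w ^ E = z := fun z => by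
    obtain ⟨w, hw⟩ := IsAlgClosed.exists_pow_nat_eq (z : K) hE
    have hw0 : w ≠ 0 := fun h => z.ne_zero (by rw [← hw, h, zero_pow hE.ne'])
    exact ⟨Units.mk0 w hw0, Units.ext (by simpa using hw)⟩
  choose w hw using hroot
  let ψ : ↥NS →ₗ[ℤ] Additive Kˣ := bN.constr ℤ fun i =>
    Additive.ofMul (w (χN (Multiplicative.ofAdd (⟨(bN i).1, (bN i).2⟩ : ↥N))))
  have hψ : ∀ x : ↥NS, E • ψ x = Additive.ofMul (χN (Multiplicative.ofAdd (⟨x.1, x.2⟩ : ↥N))) := by
    let L : ↥NS →ₗ[ℤ] Additive Kˣ := (AddMonoidHom.mk' (fun x : ↥NS =>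
      Additive.ofMul (χN (Multiplicative.ofAdd (⟨x.1, x.2⟩ : ↥N)))) fun a b => by
        rw [← ofMul_mul, ← map_mul, ← ofAdd_add]; rfl).toIntLinearMap
    have : (E : ℤ) • ψ = L := bN.ext fun i => by
      show (E : ℤ) • ψ (bN i) = L (bN i)
      rw [show ψ (bN i) = _ from bN.constr_basis ℤ _ i, natCast_zsmul, ← ofMul_pow, hw]
      rfl
    intro x
    have h := LinearMap.congr_fun this x
    rw [LinearMap.smul_apply, natCast_zsmul] at h
    exact h
  let π' : D.M →+ ↥NS := AddMonoidHom.mk' (fun x => ⟨π x, hπN x⟩) fun a b => Subtype.ext (map_add π a b)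
  let χ : Multiplicative D.M →* Kˣ := AddMonoidHom.toMultiplicativeLeft (ψ.toAddMonoidHom.comp π')
  refine ⟨χ, MonoidHom.ext fun x => ?_, fun a => ?_⟩
  · show (ψ (π' (x.toAdd : ↥N).1)).toMul = χN x
    rw [show π' (x.toAdd : ↥N).1 = E • (⟨(x.toAdd : ↥N).1, (x.toAdd : ↥N).2⟩ : ↥NS) from
      Subtype.ext (hπid _ (x.toAdd : ↥N).2), map_nsmul, hψ]
    rfl
  · show (ψ (π' (D.P.root a))).toMul = 1
    rw [show π' (D.P.root a) = 0 from Subtype.ext (hπroot a), map_zero]
    rfl

/-- The coroot on the quotient. -/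
def qCoroot (hN : ∀ x : D.M, x ∈ N ↔ ∀ a : D.idx, D.P.coroot a x = 0) (a : D.idx) : Module.Dual ℤ (D.M ⧸ N) :=
  (QuotientAddGroup.lift N (D.P.coroot a).toAddMonoidHom fun x hx => (hN x).mp hx a).toIntLinearMap

theorem qCoroot_mk (a : D.idx) (x : D.M) : qCoroot hN a (QuotientAddGroup.mk' N x) = D.P.coroot a x := rfl

/-- The root datum of the derived group. -/
def qPairing (hN : ∀ x : D.M, x ∈ N ↔ ∀ a : D.idx, D.P.coroot a x = 0) :
    RootPairing D.idx ℤ (D.M ⧸ N) (Module.Dual ℤ (D.M ⧸ N)) :=
  haveI := DerivedKer22.free_quotient hN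
  haveI := DerivedKer22.finite_quotient N
  { toLinearMap := Module.Dual.eval ℤ (D.M ⧸ N)
    root := ⟨fun a => QuotientAddGroup.mk' N (D.P.root a), fun a c h => D.P.root.injective (sub_eq_zero.mp
      (eq_zero_of_mem_span (sub_mem (Submodule.subset_span ⟨a, rfl⟩) (Submodule.subset_span ⟨c, rfl⟩))
        ((hN _).mp ((QuotientAddGroup.eq_zero_iff _).mp (by
          show QuotientAddGroup.mk' N (D.P.root a - D.P.root c) = 0
          rw [map_sub, sub_eq_zero]; exact h)))))⟩
    coroot := ⟨qCoroot hN, fun a c h => D.P.coroot.injective (LinearMap.ext fun x => by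
      rw [← qCoroot_mk hN a x, ← qCoroot_mk hN c x, h])⟩
    root_coroot_two := fun a => (coroot_root a a).trans (D.P.pairing_same a)
    reflectionPerm := D.P.reflectionPerm
    reflectionPerm_root := fun a c => by
      show QuotientAddGroup.mk' N (D.P.root c) - D.P.coroot a (D.P.root c) • QuotientAddGroup.mk' N (D.P.root a) =
        QuotientAddGroup.mk' N (D.P.root (D.P.reflectionPerm a c))
      rw [← map_zsmul, ← map_sub, D.P.root_reflectionPerm]
      congr 1
      exact (reflHom_apply a _).symm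
    reflectionPerm_coroot := fun a c => by
      refine LinearMap.ext fun q => ?_
      obtain ⟨x, rfl⟩ := QuotientAddGroup.mk'_surjective N q
      have h := LinearMap.congr_fun (D.P.reflectionPerm_coroot a c) x
      rw [D.pairing_eq] at h
      exact h }

theorem qPairing_reflection (a : D.idx) :
    (QuotientAddGroup.mk' N).comp (reflHom D a) =
      ((qPairing hN).reflection a).toLinearMap.toAddMonoidHom.comp (QuotientAddGroup.mk' N) :=
  AddMonoidHom.ext fun x => by
    show QuotientAddGroup.mk' N (reflHom D a x) = (qPairing hN).reflection a (QuotientAddGroup.mk' N x)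
    rw [reflHom_apply, RootPairing.reflection_apply]
    show _ = QuotientAddGroup.mk' N x - D.P.coroot a x • QuotientAddGroup.mk' N (D.P.root a)
    rw [map_sub, map_zsmul]

include hN in
/-- The characters killed by the coroots are a direct summand. -/
theorem exists_retraction : ∃ ρ : D.M →+ ↥N, ρ.comp N.subtype = AddMonoidHom.id _ := by
  obtain ⟨σ, hσ⟩ := DerivedKer22.exists_section_quotient hN
  refine ⟨AddMonoidHom.mk' (fun x => ⟨x - σ (QuotientAddGroup.mk' N x), (QuotientAddGroup.eq_zero_iff _).mp ?_⟩)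
    fun a b => Subtype.ext (by simp [add_sub_add_comm]), AddMonoidHom.ext fun x => Subtype.ext ?_⟩
  · show QuotientAddGroup.mk' N _ = 0
    rw [map_sub, show QuotientAddGroup.mk' N (σ _) = _ from DFunLike.congr_fun hσ (QuotientAddGroup.mk' N x),
      AddMonoidHom.id_apply, sub_self]
  · show (x : D.M) - σ (QuotientAddGroup.mk' N x) = x
    rw [show QuotientAddGroup.mk' N (x : D.M) = 0 from (QuotientAddGroup.eq_zero_iff _).mpr x.2, map_zero, sub_zero]

end Groth.Agent.DerivedSplit22
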