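import Groth.Agent.Reduced22.DerivedFib
import Groth.Agent.GrpSchLib.RankOneBase
import Groth.Agent.AGFHopf.SchTor
import Groth.Agent.AGFHopf.SchBorel

/-!
# The splitting of the derived group of a split group
-/

set_option autoImplicit false
set_option linter.unusedSectionVars false
set_option linter.style.haveILetI false

universe u

open CategoryTheory CategoryTheory.Limits AlgebraicGeometry MonoidalCategory CartesianMonoidalCategory
open MonObj GrpObj

noncomputable section

namespace Groth.Agent.DerivedSplit22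

open Groth.Agent.RedCell22 Groth.Agent.Reduced22 Groth.Agent
open scoped Groth.Agent.AGF27

/-- An isomorphism of character groups gives one of the diagonalisable groups. -/
def dsIso {U : Scheme.{u}} {M M' : Type} [AddCommGroup M] [AddCommGroup M'] (e : M' ≃+ M) :
    Grp.mk (Red.DS U M) ≅ Grp.mk (Red.DS U M') :=
  haveI := Sga3xB.isMonHom_DSmap (S := U) e.toAddMonoidHom
  haveI := Sga3xB.isMonHom_DSmap (S := U) e.symm.toAddMonoidHom
  let i : Red.DS U M ≅ Red.DS U M' :=
    ⟨Red.DSmap U e.toAddMonoidHom, Red.DSmap U e.symm.toAddMonoidHom,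
      by rw [← Red23Lib.Pinned.DSmap_comp,
        show e.toAddMonoidHom.comp e.symm.toAddMonoidHom = AddMonoidHom.id _ from AddMonoidHom.ext e.apply_symm_apply,
        Sga3xB.DSmap_id],
      by rw [← Red23Lib.Pinned.DSmap_comp,
        show e.symm.toAddMonoidHom.comp e.toAddMonoidHom = AddMonoidHom.id _ from AddMonoidHom.ext e.symm_apply_apply,
        Sga3xB.DSmap_id]⟩
  haveI : IsMonHom i.hom := Sga3xB.isMonHom_DSmap (S := U) e.toAddMonoidHom
  Grp.mkIso' i

/-- Split diagonalisable groups of lattices are tori. -/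
theorem isTorus_ds (S : Scheme.{u}) (M : Type) [AddCommGroup M] [Module.Free ℤ M] [Module.Finite ℤ M] :
    Red.IsTorus (Red.DS S M) :=
  ⟨S, 𝟙 S, inferInstance, inferInstance, fun V hV => ⟨V, hV.isCompact, by simp⟩,
    fun s => ⟨⊤, trivial, Module.finrank ℤ M, ⟨Sga3xB.bcGrpIso _ M ≪≫
      dsIso (Module.finBasis ℤ M).equivFun.toAddEquiv.symm⟩⟩⟩

variable {S : Scheme.{u}} {G : Over S} [GrpObj G] [IsAffineHom G.hom] {D : Red.SplitRed G} {n m : ℕ}
variable {N : AddSubgroup D.M} (hN : ∀ x : D.M, x ∈ N ↔ ∀ a : D.idx, D.P.coroot a x = 0)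
variable {φ : D.M →+ ℤ} {l : Fin n → D.idx} {l' : Fin m → D.idx}
variable {f : G ⟶ Red.DS S ↥N} [IsMonHom f]
variable {D' : Over S} [GrpObj D'] (d : D' ⟶ G) [IsMonHom d] (hd : AlgGrp.IsKernel d f)

theorem mem_quot {K : Type u} [Field K] (hφN : ∀ x ∈ N, φ x = 0) (z : Kˣ) :
    ∃ χ' : Multiplicative (D.M ⧸ N) →* Kˣ,
      χ'.comp (AddMonoidHom.toMultiplicative (QuotientAddGroup.mk' N)) = RedCell22.coVal D φ z :=
  exists_quot_char N _ (MonoidHom.ext fun k => by
    show RedCell22.coVal D φ z (Multiplicative.ofAdd ((k.toAdd : ↥N) : D.M)) = 1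
    rw [RedCell22.coVal_apply, hφN _ (k.toAdd : ↥N).2, zpow_zero])

theorem derTorus_pt {A : Type u} [CommRing A] {b : Spec (CommRingCat.of A) ⟶ S}
    {i' : Red.DS S (D.M ⧸ N) ⟶ D'}
    (hi' : i' ≫ d = Red.DSmap S (QuotientAddGroup.mk' N) ≫ D.split.inv.hom.hom ≫ D.i)
    (χ : Multiplicative (D.M ⧸ N) →* Aˣ) :
    ((dsPt χ : tb b A ⟶ Red.DS S (D.M ⧸ N)) ≫ i') ≫ d =
      tG D (tpt D (χ.comp (AddMonoidHom.toMultiplicative (QuotientAddGroup.mk' N)))) := by
  rw [Category.assoc, hi', ← Category.assoc, dsPt_DSmap, ← Category.assoc]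
  rfl

include hN hd in
/-- The torus of the derived group is maximal on geometric fibres. -/
theorem maxTorus_fibre (base : D.P.Base) (hφ : ∀ a ∈ base.support, 0 < φ (D.P.root a)) (hφN : ∀ x ∈ N, φ x = 0)
    (hl : PosList D (-φ) l) (hf : RedSub.cellMap D l l' ≫ f = cellChar D N n m)
    (i' : Red.DS S (D.M ⧸ N) ⟶ D') [IsMonHom i']
    (hi' : i' ≫ d = Red.DSmap S (QuotientAddGroup.mk' N) ≫ D.split.inv.hom.hom ≫ D.i) (s : S)
    (T' : Over (Spec (CommRingCat.of (AlgebraicClosure (S.residueField s))))) [GrpObj T']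
    (j : T' ⟶ Red.geomFibre s D') [IsMonHom j] [Mono j] (f' : Red.geomFibre s (Red.DS S (D.M ⧸ N)) ⟶ T')
    (hT' : Red.IsTorus T') (hf' : f' ≫ j = (Over.pullback (Red.geomPt s)).map i') : IsIso f' := by
  let K := AlgebraicClosure (S.residueField s)
  let β : Spec (CommRingCat.of K) ⟶ S := Red.geomPt s
  haveI := DerivedKer22.free_quotient hN
  haveI := DerivedKer22.finite_quotient N
  haveI := mono_kernel d hd
  haveI := isClosedImmersion_kernel d hd
  haveI : Mono i' := by
    haveI := mono_DSmap_mk (S := S) N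
    haveI : Mono D.i := D.maximalTorus.2.1
    haveI : IsIso D.split.inv.hom.hom := (inferInstance : IsIso ((Grp.forget _).map D.split.inv))
    haveI : Mono (i' ≫ d) := by rw [hi']; infer_instance
    exact mono_of_mono i' d
  haveI : Smooth G.hom := D.reductive.2.1
  haveI : Smooth (GK β G).hom := inferInstanceAs (Smooth (pullback.snd G.hom β))
  let dK : GK β D' ⟶ GK β G := (Over.pullback β).map d
  haveI : IsMonHom dK := inferInstanceAs (IsMonHom ((Over.pullback β).map d))
  haveI : Mono dK := inferInstanceAs (Mono ((Over.pullback β).map d))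
  let I : GK β (Red.DS S (D.M ⧸ N)) ⟶ GK β D' := (Over.pullback β).map i'
  haveI : IsMonHom I := inferInstanceAs (IsMonHom ((Over.pullback β).map i'))
  haveI : Mono I := inferInstanceAs (Mono ((Over.pullback β).map i'))
  have hTD : Red.IsTorus (GK β (Red.DS S (D.M ⧸ N))) :=
    AbSchH3.TorusAV.isTorus_bc β (isTorus_ds S (D.M ⧸ N))
  haveI : Mono (I ≫ dK) := mono_comp I dK
  haveI : IsClosedImmersion (I ≫ dK).left := AGFHopf.isClosedImmersion_torus hTD (I ≫ dK)
  haveI : Mono (j ≫ dK) := mono_comp j dK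
  haveI : IsClosedImmersion (j ≫ dK).left := AGFHopf.isClosedImmersion_torus hT' (j ≫ dK)
  haveI : IsAffine T'.left := isAffine_of_isAffineHom (j ≫ dK).left
  haveI := (AGFHopf.smooth_connected_torus hT').1
  haveI : IsReduced T'.left := GrpSchLib.isReduced_of_smooth_field T'.hom
  haveI : IsMonHom f' := by
    haveI : IsMonHom ((Over.pullback β).map i') := inferInstance
    exact
      { one_hom := by
          rw [← cancel_mono j, Category.assoc, hf', IsMonHom.one_hom ((Over.pullback β).map i'), IsMonHom.one_hom j]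
        mul_hom := by
          rw [← cancel_mono j, Category.assoc, hf', IsMonHom.mul_hom ((Over.pullback β).map i'), Category.assoc,
            IsMonHom.mul_hom j, MonoidalCategory.tensorHom_comp_tensorHom_assoc, hf'] }
  obtain ⟨ψ, hψ⟩ := AGFHopf.exists_factor_of_pts (I ≫ dK) (j ≫ dK) fun x => by
    obtain ⟨g, hg⟩ := liftPt_bijective.2 (x ≫ j ≫ dK)
    have hfix : (lam D φ).IsFixed g := isFixed_of_conj fun z => by
      obtain ⟨χ', hχ'⟩ := mem_quot (N := N) hφN z
      let q : tb β K ⟶ Red.DS S (D.M ⧸ N) := dsPt χ'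
      let L : tb β K ⟶ G := tG D (tpt D (RedCell22.coVal D φ z))
      have hL : liftPt L = (liftPt q ≫ f') ≫ j ≫ dK := by
        rw [Category.assoc, ← Category.assoc f', hf']
        refine (DSPtsLib.theta_bijective β).1 ?_
        rw [theta_liftPt, ← Category.assoc, theta_map, theta_map, theta_liftPt, derTorus_pt d hi', hχ']
      show L * g * L⁻¹ = g
      have hcomm : L * g = g * L := liftPt_bijective.1 (by
        rw [liftPt_mul, liftPt_mul, hL, hg, ← MonObj.mul_comp, ← MonObj.mul_comp,
          GrpSchLib.RankOne.torus_mul_comm hT' _ (liftPt q ≫ f') x])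
      rw [hcomm, mul_inv_cancel_right]
    obtain ⟨t, ht⟩ := Red23Lib.Pinned.Inner.exists_torus_of_fixed D base hφ hfix
    obtain ⟨χ, rfl⟩ := tpt_surjective D t
    have hgf : g ≫ f = 1 := by
      obtain ⟨p, hp⟩ := liftPt_bijective.2 (x ≫ j)
      have : g = p ≫ d := liftPt_bijective.1 (by
        rw [hg]
        refine (DSPtsLib.theta_bijective β).1 ?_
        rw [theta_liftPt, ← Category.assoc, theta_map, ← hp, theta_liftPt])
      rw [this]
      exact comp_f d hd p
    rw [ht, comp_f_torus hl hf] at hgf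
    obtain ⟨χ', hχ'⟩ := exists_quot_char N χ (dsPt_injective (hgf.trans dsPt_one.symm))
    refine AGFHopf.mem_pts.mpr ⟨liftPt (dsPt χ' : tb β K ⟶ Red.DS S (D.M ⧸ N)), ?_⟩
    congr 1
    refine (DSPtsLib.theta_bijective β).1 ?_
    rw [← hg, theta_liftPt, ← Category.assoc, theta_map, theta_map, theta_liftPt, derTorus_pt d hi', hχ', ht]
  refine ⟨ψ, ?_, ?_⟩
  · rw [← cancel_mono (I ≫ dK), Category.assoc, hψ, ← Category.assoc, hf', Category.id_comp]
  · rw [← cancel_mono (j ≫ dK), Category.assoc, ← Category.assoc f', hf', hψ, Category.id_comp]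

include hN hd in
/-- The dimension of the geometric fibres of the derived group. -/
theorem dim_fibre_derived (base : D.P.Base) (hφ : ∀ a ∈ base.support, 0 < φ (D.P.root a))
    (hl : PosList D (-φ) l) (hl' : PosList D φ l') (hf : RedSub.cellMap D l l' ≫ f = cellChar D N n m)
    (hsm : Smooth D'.hom) (hconn : RedSub.HasConnectedFibres D') (s : S) :
    topologicalKrullDim ↥(Red.geomFibre s D').left =
      ((Module.finrank ℤ (D.M ⧸ N) + Fintype.card D.idx : ℕ) : WithBot ℕ∞) := by
  let K := AlgebraicClosure (S.residueField s)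
  let β : Spec (CommRingCat.of K) ⟶ S := Red.geomPt s
  haveI := DerivedKer22.free_quotient hN
  haveI := DerivedKer22.finite_quotient N
  have hreg : ∀ r, φ (D.P.root r) ≠ 0 := fun r => (mem_posRoots_iff D.P base hφ r).2.2
  haveI := isOpenImmersion_cell hl hl' hreg
  let cm := RedSub.cellMap D l l'
  let DI := derIncl D N n m
  obtain ⟨σ, hσ⟩ := DerivedKer22.exists_section_quotient hN
  obtain ⟨c, hc⟩ := exists_factor d hd (DI ≫ cm) (by rw [Category.assoc, hf, derIncl_cellChar])
  have hexl : ∀ q : PullbackCone cm d, ∃ p : q.pt ⟶ DerSrc (D := D) N n m, p ≫ DI = q.fst := fun q => by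
    refine exists_derIncl q.fst ?_
    rw [← hf, ← Category.assoc, q.condition, comp_f d hd]
  choose L hL using hexl
  haveI := mono_kernel d hd
  have hsq : IsPullback DI c cm d := ⟨⟨hc.symm⟩, ⟨PullbackCone.IsLimit.mk hc.symm L hL
    (fun q => (cancel_mono d).mp (by rw [Category.assoc, hc, ← Category.assoc, hL, q.condition]))
    (fun q p h1 _ => by
      have := congrArg (· ≫ DerivedKer22.cellRetr D N σ n m) (h1.trans (hL q).symm)
      simpa [DI, Category.assoc, DerivedKer22.derIncl_cellRetr (n := n) (m := m) hσ] using this)⟩⟩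
  haveI : IsOpenImmersion c.left :=
    MorphismProperty.of_isPullback (P := @IsOpenImmersion) (hsq.map (Over.forget S))
      (inferInstance : IsOpenImmersion cm.left)
  haveI : Smooth (Red.geomFibre s D').hom := inferInstanceAs (Smooth (pullback.snd D'.hom β))
  have hirr : IrreducibleSpace ↥(Red.bc β D').left := by
    haveI := connectedSpace_geomFibre η[D'] s (hconn s)
    let e := η[Red.geomFibre s D'].left (IsLocalRing.closedPoint K)
    obtain ⟨g, hg, hge⟩ := GrpSchLib.exists_isMaxPt e
    show IrreducibleSpace ↥(Red.geomFibre s D').left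
    rw [irreducibleSpace_def, Set.top_eq_univ, ← PreconnectedSpace.connectedComponent_eq_univ e,
      GrpSchLib.connectedComponent_one hg hge]
    exact isIrreducible_singleton.closure
  rw [show topologicalKrullDim ↥(Red.geomFibre s D').left = _ from
    CellDim22.dim_of_cell (D.M ⧸ N) n m β hirr c]
  have hcard : n + m = Fintype.card D.idx := by
    classical
    have e1 : Function.Bijective (Fin.append l l') := by
      constructor
      · exact Fin.append_injective_iff.mpr ⟨hl.inj, hl'.inj, fun a c h => by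
          have h1 := hl.pos D a
          rw [h, AddMonoidHom.neg_apply, neg_pos] at h1
          exact lt_asymm h1 (hl'.pos D c)⟩
      · intro r
        rcases lt_or_gt_of_ne (hreg r) with h | h
        · obtain ⟨a, ha⟩ := (hl.mem_iff r).mpr (by rw [AddMonoidHom.neg_apply, neg_pos]; exact h)
          exact ⟨Fin.castAdd m a, by rw [Fin.append_left, ha]⟩
        · obtain ⟨a, ha⟩ := (hl'.mem_iff r).mpr h
          exact ⟨Fin.natAdd n a, by rw [Fin.append_right, ha]⟩
    simpa using Fintype.card_of_bijective e1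
  rw [show n + (Module.finrank ℤ (D.M ⧸ N) + m) = Module.finrank ℤ (D.M ⧸ N) + Fintype.card D.idx by omega]

end Groth.Agent.DerivedSplit22
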