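import Groth.Agent.Reduced22.DerivedSplit

/-!
# Homomorphisms to commutative groups factor through the projection; assembling the splitting
-/

set_option autoImplicit false
set_option linter.unusedSectionVars false
set_option linter.style.haveILetI false

universe u

open CategoryTheory CategoryTheory.Limits AlgebraicGeometry MonoidalCategory CartesianMonoidalCategory
open MonObj GrpObj

noncomputable section

namespace Groth.Agent.DerivedSplit22

open Groth.Agent.RedCell22 Groth.Agent.Reduced22 Groth.Agent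

variable {S : Scheme.{u}} {G : Over S} [GrpObj G] [IsAffineHom G.hom] {D : Red.SplitRed G} {n m : ℕ}
variable {N : AddSubgroup D.M} (hN : ∀ x : D.M, x ∈ N ↔ ∀ a : D.idx, D.P.coroot a x = 0)
variable {φ : D.M →+ ℤ} {l : Fin n → D.idx} {l' : Fin m → D.idx}
variable {f : G ⟶ Red.DS S ↥N} [IsMonHom f]

include hN in
/-- A homomorphism to a commutative group factors through the projection. -/
theorem exists_factor_hom (base : D.P.Base) (hφ : ∀ a ∈ base.support, 0 < φ (D.P.root a))
    (hl : PosList D (-φ) l) (hl' : PosList D φ l') (hf : RedSub.cellMap D l l' ≫ f = cellChar D N n m)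
    {C : Over S} [GrpObj C] (f₀ : G ⟶ C) [IsMonHom f₀] (hC : ∀ (X : Over S) (a b : X ⟶ C), a * b = b * a) :
    ∃ h : Red.DS S ↥N ⟶ C, IsMonHom h ∧ f ≫ h = f₀ := by
  obtain ⟨ρ, hρ⟩ := exists_retraction hN
  haveI := Sga3xB.isMonHom_DSmap (S := S) ρ
  haveI : IsMonHom D.i := D.maximalTorus.1
  haveI : IsMonHom D.split.inv.hom.hom := D.split.inv.hom.isMonHom_hom
  let h : Red.DS S ↥N ⟶ C := Red.DSmap S ρ ≫ D.split.inv.hom.hom ≫ D.i ≫ f₀
  have hreg : ∀ r, φ (D.P.root r) ≠ 0 := fun r => (mem_posRoots_iff D.P base hφ r).2.2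
  haveI := isOpenImmersion_cell hl hl' hreg
  let cm := RedSub.cellMap D l l'
  let W := Submonoid.closure (DerivedKer22.genSet D base)
  have hW : ∀ {Q : Over S} [GrpObj Q] (f' : G ⟶ Q) [IsMonHom f'],
      (∀ (X : Over S) (a b : X ⟶ Q), a * b = b * a) → ∀ w ∈ W, w ≫ f' = 1 := by
    intro Q _ f' _ hQ w hw
    induction hw using Submonoid.closure_induction with
    | mem g hg =>
      obtain ⟨a, -, rfl⟩ := hg
      refine hom_ext_of_pts fun A _ b q => ?_
      rw [← Category.assoc, ← Category.assoc, ← gaPt_gaFn (q ≫ DerivedKer22.oneSec S), MonObj.comp_one]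
      exact DerivedKer22.ua_killed hQ a _
    | one => exact MonObj.one_comp f'
    | mul a b _ _ ha hb => rw [MonObj.mul_comp _ _ f', ha, hb, _root_.mul_one]
  have hcomm : ∀ (X : Over S) (a b : X ⟶ Red.DS S ↥N), a * b = b * a := fun X a b =>
    Red23Lib.Pinned.dsCh_ext fun z => by
      rw [Red23Lib.Pinned.dsCh_mul, Red23Lib.Pinned.dsCh_mul, _root_.mul_comm]
  haveI hh : IsMonHom h := inferInstance
  let Cw : W → (CellSrc D n m ⟶ G) := fun w => (toUnit _ ≫ w.1) * cm
  have hopen : ∀ w, IsOpenImmersion (Cw w).left := fun w => by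
    rw [show Cw w = cm ≫ (leftTrans w.1).hom from (comp_leftTrans _ _).symm]
    haveI : IsIso (leftTrans w.1).hom.left := (inferInstance : IsIso ((Over.forget S).map (leftTrans w.1).hom))
    show IsOpenImmersion (_ ≫ (leftTrans w.1).hom.left)
    infer_instance
  have hcov : ∀ y : ↥G.left, ∃ (w : W) (z : ↥(CellSrc D n m).left), (Cw w).left z = y := by
    intro y
    obtain ⟨L, _, _, β, q, hq⟩ := exists_geom_point y
    obtain ⟨w, hw, hO⟩ := exists_translate (b := β) base hφ W (fun a ha g x hh => by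
      obtain ⟨c, hc, -, hxc⟩ := exists_coord_const (K := L) (DerivedKer22.oneSec S) β DerivedKer22.isUnit_oneSec
      rcases inOmega_mul_root_unit base ha hφ hh x hc with h1 | h1
      · exact ⟨1, one_mem W, by rw [MonObj.comp_one, inv_one, _root_.one_mul]; exact h1⟩
      · exact ⟨DerivedKer22.oneSec S ≫ D.u a, Submonoid.subset_closure ⟨a, ha, rfl⟩, by
          rw [← Category.assoc, hxc]; exact h1⟩) q
    obtain ⟨p, hp⟩ := hO.exists_cellPt hl hl'
    have hp' : p ≫ Cw ⟨w, hw⟩ = q := by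
      show p ≫ ((toUnit _ ≫ w) * cm) = _
      rw [comp_const_mul, hp, mul_inv_cancel_left]
    exact ⟨⟨w, hw⟩, p.left (IsLocalRing.closedPoint L), by rw [← hq, ← hp']; rfl⟩
  let 𝒰 : G.left.OpenCover := G.left.openCoverOfIsOpenCover (fun w : W => haveI := hopen w; (Cw w).left.opensRange)
    (TopologicalSpace.IsOpenCover.mk (top_le_iff.mp fun y _ => by
      obtain ⟨w, z, rfl⟩ := hcov y
      exact TopologicalSpace.Opens.mem_iSup.mpr ⟨w, z, rfl⟩))
  refine ⟨h, hh, Over.OverMorphism.ext (𝒰.hom_ext _ _ fun w => ?_)⟩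
  haveI := hopen w
  show (Cw w).left.opensRange.ι ≫ _ = (Cw w).left.opensRange.ι ≫ _
  rw [show (Cw w).left.opensRange.ι = (Cw w).left.isoOpensRange.inv ≫ (Cw w).left from
    (Scheme.Hom.isoOpensRange_inv_comp _).symm, Category.assoc, Category.assoc]
  congr 1
  show (Cw w ≫ f ≫ h).left = (Cw w ≫ f₀).left
  congr 1
  refine hom_ext_of_pts fun A _ b q => ?_
  obtain ⟨y, t, x, rfl⟩ := exists_cellPt D q
  obtain ⟨χ, rfl⟩ := tpt_surjective D t
  have e1 : cellPt D y (tpt D χ) x ≫ Cw w ≫ f₀ = (tG D (tpt D χ) : tb b A ⟶ G) ≫ f₀ := by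
    rw [← Category.assoc, comp_const_mul, cellPt_cellMap, cellWord, MonObj.mul_comp _ _ f₀, MonObj.mul_comp _ _ f₀,
      MonObj.mul_comp _ _ f₀, DerivedKer22.word_killed hC, DerivedKer22.word_killed hC, Category.assoc, hW f₀ hC w.1 w.2,
      MonObj.comp_one, _root_.one_mul, _root_.one_mul, _root_.mul_one]
  have e2' : cellPt D y (tpt D χ) x ≫ Cw w ≫ f = (tG D (tpt D χ) : tb b A ⟶ G) ≫ f := by
    rw [← Category.assoc, comp_const_mul, cellPt_cellMap, cellWord, MonObj.mul_comp _ _ f, MonObj.mul_comp _ _ f,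
      MonObj.mul_comp _ _ f, DerivedKer22.word_killed hcomm, DerivedKer22.word_killed hcomm, Category.assoc,
      hW f hcomm w.1 w.2, MonObj.comp_one]
    letI : Group (tb b A ⟶ Red.DS S ↥N) := Hom.group
    exact (_root_.one_mul _).trans ((_root_.one_mul _).trans (_root_.mul_one ((tG D (tpt D χ) : tb b A ⟶ G) ≫ f)))
  have e2 : cellPt D y (tpt D χ) x ≫ Cw w ≫ f ≫ h = (tG D (tpt D χ) : tb b A ⟶ G) ≫ f ≫ h := by
    rw [← Category.assoc (Cw w), ← Category.assoc, e2', Category.assoc]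
  rw [e1, e2, ← Category.assoc, comp_f_torus hl hf]
  simp only [h]
  rw [← Category.assoc, dsPt_DSmap, ← Category.assoc, ← Category.assoc]
  show tG D (tpt D _) ≫ f₀ = _
  let χ₀ := χ * ((χ.comp (AddMonoidHom.toMultiplicative N.subtype)).comp (AddMonoidHom.toMultiplicative ρ))⁻¹
  have hχ₀ : χ₀.comp (AddMonoidHom.toMultiplicative N.subtype) = 1 := MonoidHom.ext fun k => by
    show χ (Multiplicative.ofAdd ((k.toAdd : ↥N) : D.M)) *
      (χ (Multiplicative.ofAdd ((ρ ((k.toAdd : ↥N) : D.M) : ↥N) : D.M)))⁻¹ = 1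
    rw [show ρ ((k.toAdd : ↥N) : D.M) = k.toAdd from DFunLike.congr_fun hρ _, mul_inv_cancel]
  obtain ⟨χ', hχ'⟩ := exists_quot_char N χ₀ hχ₀
  have hk : (tG D (tpt D χ₀) : tb b A ⟶ G) ≫ f₀ = 1 := by
    have h1 := congrArg (fun z => (dsPt χ' : tb b A ⟶ Red.DS S (D.M ⧸ N)) ≫ z)
      (DerivedKer22.derTorus_killed (f := f₀) hC base N hN)
    simp only [MonObj.comp_one] at h1
    rw [← Category.assoc, dsPt_DSmap, ← Category.assoc, ← Category.assoc, hχ'] at h1
    exact h1
  conv_rhs => rw [show χ = χ₀ * (χ.comp (AddMonoidHom.toMultiplicative N.subtype)).comp (AddMonoidHom.toMultiplicative ρ) from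
    (inv_mul_cancel_right χ _).symm, tpt_mul, tG_mul, MonObj.mul_comp _ _ f₀, hk, _root_.one_mul]

include hN in
/-- The kernel of a homomorphism to a commutative group killed by the projection is that of the projection. -/
theorem isKernel_derived (base : D.P.Base) (hφ : ∀ a ∈ base.support, 0 < φ (D.P.root a))
    (hl : PosList D (-φ) l) (hl' : PosList D φ l') (hf : RedSub.cellMap D l l' ≫ f = cellChar D N n m)
    {D' : Over S} [GrpObj D'] (d : D' ⟶ G) (hkill : RedSub.KilledByCommutative d)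
    {C : Over S} [GrpObj C] (f₀ : G ⟶ C) [IsMonHom f₀] (hC : ∀ (X : Over S) (a b : X ⟶ C), a * b = b * a)
    (hd : AlgGrp.IsKernel d f₀) : AlgGrp.IsKernel d f := by
  obtain ⟨h, hh, he⟩ := exists_factor_hom hN base hφ hl hl' hf f₀ hC
  haveI := hh
  have hd' : IsPullback d (toUnit D') f₀ η[C] := hd
  have hw : d ≫ f = 1 := hkill _ f fun X a b => Red23Lib.Pinned.dsCh_ext fun z => by
    rw [Red23Lib.Pinned.dsCh_mul, Red23Lib.Pinned.dsCh_mul, _root_.mul_comm]
  have hex : ∀ q : PullbackCone f η[Red.DS S ↥N], ∃ p : q.pt ⟶ D', p ≫ d = q.fst := fun q => by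
    have h1 : q.fst ≫ f = 1 := by rw [q.condition, Hom.one_def, toUnit_unique q.snd (toUnit _)]
    have h2 : q.fst ≫ f₀ = 1 := by rw [← he, ← Category.assoc, h1, MonObj.one_comp h]
    exact ⟨hd'.lift q.fst (toUnit _) (h2.trans Hom.one_def), hd'.lift_fst _ _ _⟩
  choose L hL using hex
  exact ⟨⟨hw.trans Hom.one_def⟩, ⟨PullbackCone.IsLimit.mk (hw.trans Hom.one_def) L hL
    (fun q => toUnit_unique _ _)
    (fun q p h1 _ => hd'.hom_ext (h1.trans (hL q).symm) (toUnit_unique _ _))⟩⟩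

include hN in
theorem exists_splitting (D' : Over S) [GrpObj D'] (d : D' ⟶ G) [IsMonHom d] (hd : AlgGrp.IsKernel d f)
    (hif : D.i ≫ f = D.split.hom.hom.hom ≫ Red.DSmap S N.subtype)
    (hu : ∀ a, D.u a ≫ f = 1) (hsm : Smooth D'.hom)
    (hfib : ∀ s : S, Red.IsReductiveOver (AlgebraicClosure (S.residueField s)) (Red.geomFibre s D'))
    (hmax : ∀ (i' : Red.DS S (D.M ⧸ N) ⟶ D') [IsMonHom i'],
      i' ≫ d = Red.DSmap S (QuotientAddGroup.mk' N) ≫ D.split.inv.hom.hom ≫ D.i → ∀ (s : S)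
      (T' : Over (Spec (CommRingCat.of (AlgebraicClosure (S.residueField s))))) [GrpObj T']
      (j : T' ⟶ Red.geomFibre s D') [IsMonHom j] [Mono j] (f' : Red.geomFibre s (Red.DS S (D.M ⧸ N)) ⟶ T'),
      Red.IsTorus T' → f' ≫ j = (Over.pullback (Red.geomPt s)).map i' → IsIso f')
    (hdim : ∀ s : S, topologicalKrullDim ↥(Red.geomFibre s D').left =
      ((Module.finrank ℤ (D.M ⧸ N) + Fintype.card D.idx : ℕ) : WithBot ℕ∞)) :
    ∃ (Dd : Red.SplitRed D') (τ : Dd.T ⟶ D.T) (eidx : Dd.idx ≃ D.idx) (em : Dd.M ≃+ D.M ⧸ N),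
      τ ≫ D.i = Dd.i ≫ d ∧
      τ ≫ D.split.hom.hom.hom =
        Dd.split.hom.hom.hom ≫ Red.DSmap S (em.symm.toAddMonoidHom.comp (QuotientAddGroup.mk' N)) ∧
      (∀ a' : Dd.idx, em (Dd.P.root a') = QuotientAddGroup.mk' N (D.P.root (eidx a'))) ∧
      (∀ a' : Dd.idx, Dd.u a' ≫ d = D.u (eidx a')) := by
  haveI := DerivedKer22.free_quotient hN
  haveI := DerivedKer22.finite_quotient N
  haveI := mono_kernel d hd
  haveI := isClosedImmersion_kernel d hd
  haveI : IsMonHom D.i := D.maximalTorus.1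
  haveI : Mono D.i := D.maximalTorus.2.1
  haveI : IsMonHom D.split.inv.hom.hom := D.split.inv.hom.isMonHom_hom
  haveI : IsIso D.split.inv.hom.hom := (inferInstance : IsIso ((Grp.forget _).map D.split.inv))
  haveI := Sga3xB.isMonHom_DSmap (S := S) (QuotientAddGroup.mk' N)
  haveI := Sga3xB.isMonHom_DSmap (S := S) N.subtype
  haveI : IsMonHom (Red.DSmap S (QuotientAddGroup.mk' N) ≫ D.split.inv.hom.hom ≫ D.i) := inferInstance
  have hs1 : D.split.inv.hom.hom ≫ D.split.hom.hom.hom = 𝟙 _ := congrArg (fun z => z.hom.hom) D.split.inv_hom_id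
  have hs2 : D.split.hom.hom.hom ≫ D.split.inv.hom.hom = 𝟙 _ := congrArg (fun z => z.hom.hom) D.split.hom_inv_id
  obtain ⟨i', hi'⟩ := exists_factor d hd (Red.DSmap S (QuotientAddGroup.mk' N) ≫ D.split.inv.hom.hom ≫ D.i) (by
    rw [Category.assoc, Category.assoc, hif, reassoc_of% hs1, ← Red23Lib.Pinned.DSmap_comp,
      show (QuotientAddGroup.mk' N).comp N.subtype = 0 from
        AddMonoidHom.ext fun x => (QuotientAddGroup.eq_zero_iff _).mpr x.2, Sga3xB.DSmap_zero])
  haveI hi'm : IsMonHom i' :=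
    { one_hom := by
        rw [← cancel_mono d, Category.assoc, hi',
          IsMonHom.one_hom (Red.DSmap S (QuotientAddGroup.mk' N) ≫ D.split.inv.hom.hom ≫ D.i), IsMonHom.one_hom d]
      mul_hom := by
        rw [← cancel_mono d, Category.assoc, hi',
          IsMonHom.mul_hom (Red.DSmap S (QuotientAddGroup.mk' N) ≫ D.split.inv.hom.hom ≫ D.i), Category.assoc,
          IsMonHom.mul_hom d, MonoidalCategory.tensorHom_comp_tensorHom_assoc, hi'] }
  haveI hi'mono : Mono i' := by
    haveI := mono_DSmap_mk (S := S) N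
    haveI : Mono (i' ≫ d) := by rw [hi']; infer_instance
    exact mono_of_mono i' d
  choose u' hu' using fun a => exists_factor d hd (D.u a) (hu a)
  have hu'm : ∀ a, IsMonHom (u' a) := fun a => by
    haveI := (D.rootHom a).1
    exact
      { one_hom := by rw [← cancel_mono d, Category.assoc, hu', IsMonHom.one_hom (D.u a), IsMonHom.one_hom d]
        mul_hom := by
          rw [← cancel_mono d, Category.assoc, hu', IsMonHom.mul_hom (D.u a), Category.assoc,
            IsMonHom.mul_hom d, MonoidalCategory.tensorHom_comp_tensorHom_assoc, hu'] }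
  have haff : IsAffineHom D'.hom := by
    rw [← Over.w d]; infer_instance
  have hroot : ∀ a, Red.IsRootHom i' (Red.chi S ((qPairing hN).root a)) (u' a) := fun a => by
    refine ⟨hu'm a, ?_, fun X t x => ?_⟩
    · haveI : IsClosedImmersion ((u' a).left ≫ d.left) := by
        rw [← Over.comp_left, hu']; exact (D.rootHom a).2.1
      exact IsClosedImmersion.of_comp (u' a).left d.left
    · obtain ⟨y, hy, hfn⟩ := (D.rootHom a).2.2 X (t ≫ Red.DSmap S (QuotientAddGroup.mk' N) ≫ D.split.inv.hom.hom) x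
      refine ⟨y, ?_, ?_⟩
      · rw [← cancel_mono d, MonObj.mul_comp _ _ d, MonObj.mul_comp _ _ d, GrpObj.inv_comp _ d, Category.assoc,
          Category.assoc, Category.assoc, hu', hi', hy]
        simp only [Category.assoc]
      · rw [hfn]
        congr 2
        rw [Category.assoc, Category.assoc, reassoc_of% hs1, Red23Lib.Pinned.DSmap_chi]
        rfl
  obtain ⟨ρ, hρ⟩ := exists_retraction hN
  have hrefl : ∀ a, ∃ nn : 𝟙_ (Over S) ⟶ D', ∀ (X : Over S) (t : X ⟶ Red.DS S (D.M ⧸ N)),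
      (toUnit X ≫ nn) * (t ≫ i') * (toUnit X ≫ nn)⁻¹ =
        t ≫ Red.DSmap S ((qPairing hN).reflection a).toLinearMap.toAddMonoidHom ≫ i' := fun a => by
    obtain ⟨nr, hnr⟩ := D.refl a
    let ts : 𝟙_ (Over S) ⟶ D.T := (nr ≫ f) ≫ Red.DSmap S ρ ≫ D.split.inv.hom.hom
    have hts : (ts ≫ D.i) ≫ f = nr ≫ f := by
      simp only [ts, Category.assoc, hif, reassoc_of% hs1]
      rw [← Red23Lib.Pinned.DSmap_comp, hρ, Sga3xB.DSmap_id, Category.comp_id]
    obtain ⟨nn, hnn⟩ := exists_factor d hd (nr * (ts ≫ D.i)⁻¹) (by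
      rw [MonObj.mul_comp _ _ f, GrpObj.inv_comp _ f, hts, mul_inv_cancel])
    refine ⟨nn, fun X t => ?_⟩
    have key : ∀ t₀ : X ⟶ D.T, (toUnit X ≫ ts ≫ D.i)⁻¹ * (t₀ ≫ D.i) * (toUnit X ≫ ts ≫ D.i) = t₀ ≫ D.i := fun t₀ => by
      have hc : (toUnit X ≫ ts) * t₀ = t₀ * (toUnit X ≫ ts) :=
        GrpSchLib.RankOne.torus_mul_comm D.maximalTorus.2.2.1 X _ _
      have hc' : (toUnit X ≫ ts ≫ D.i) * (t₀ ≫ D.i) = (t₀ ≫ D.i) * (toUnit X ≫ ts ≫ D.i) := by
        rw [← Category.assoc, ← MonObj.mul_comp, hc, MonObj.mul_comp]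
      rw [_root_.mul_assoc, ← hc', inv_mul_cancel_left]
    rw [← cancel_mono d, MonObj.mul_comp _ _ d, MonObj.mul_comp _ _ d, GrpObj.inv_comp _ d, Category.assoc,
      Category.assoc, Category.assoc, Category.assoc, hnn, hi']
    rw [MonObj.comp_mul, GrpObj.comp_inv, _root_.mul_inv_rev, _root_.inv_inv]
    have hconj := hnr X (t ≫ Red.DSmap S (QuotientAddGroup.mk' N) ≫ D.split.inv.hom.hom)
    have hk := key (t ≫ Red.DSmap S (QuotientAddGroup.mk' N) ≫ D.split.inv.hom.hom)
    simp only [Category.assoc] at hconj hk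
    rw [show ∀ p q r w : X ⟶ G, p * q * r * (w * p⁻¹) = p * (q * r * w) * p⁻¹ from fun p q r w => by group, hk,
      hconj, reassoc_of% hs1, ← Category.assoc (Red.DSmap S _) (Red.DSmap S _), ← Red23Lib.Pinned.DSmap_comp,
      ← Category.assoc (Red.DSmap S _) (Red.DSmap S _), ← Red23Lib.Pinned.DSmap_comp, ← qPairing_reflection hN a]
    rfl
  refine ⟨{ T := Red.DS S (D.M ⧸ N)
            i := i'
            M := D.M ⧸ N
            idx := D.idx
            P := qPairing hN
            pairing_eq := rfl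
            u := u'
            reductive := ⟨haff, hsm, hfib⟩
            maximalTorus := ⟨hi'm, hi'mono, isTorus_ds S (D.M ⧸ N), fun s T' _ j _ _ f' hT' hf' =>
              hmax i' hi' s T' j f' hT' hf'⟩
            split := Iso.refl _
            rootHom := fun a => by
              show Red.IsRootHom i' (𝟙 _ ≫ Red.chi S ((qPairing hN).root a)) (u' a)
              rw [Category.id_comp]; exact hroot a
            refl := fun a => by
              obtain ⟨nn, hnn⟩ := hrefl a
              refine ⟨nn, fun X t => ?_⟩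
              show _ = t ≫ 𝟙 (Red.DS S (D.M ⧸ N)) ≫ Red.DSmap S _ ≫ 𝟙 (Red.DS S (D.M ⧸ N)) ≫ i'
              rw [Category.id_comp, Category.id_comp]
              exact hnn X t
            dim_fibre := hdim },
    Red.DSmap S (QuotientAddGroup.mk' N) ≫ D.split.inv.hom.hom, Equiv.refl _, AddEquiv.refl _, ?_, ?_,
    fun a' => rfl, fun a' => hu' a'⟩
  · rw [Category.assoc]
    exact hi'.symm
  · show _ = 𝟙 (Red.DS S (D.M ⧸ N)) ≫ Red.DSmap S _
    rw [Category.assoc, hs1, Category.comp_id]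
    exact (Category.id_comp (Red.DSmap S (QuotientAddGroup.mk' N))).symm

end Groth.Agent.DerivedSplit22
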