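import Groth.Agent.RootData.BaseSmul
import Groth.Agent.RootData.Facts
import Groth.Agent.RootData.Functional
import Groth.Agent.RootData.Coroot
import Groth.Prelude.Def_RedSub

/-!
# Bases of a reduced root datum
-/

set_option autoImplicit false

namespace Groth.Agent.Reduced22

open Groth.Agent.RootData RootD

variable {idx M N : Type} [AddCommGroup M] [AddCommGroup N]

theorem isCrys (P : RootPairing idx ℤ M N) : P.IsCrystallographic :=
  ⟨fun i j => ⟨P.pairing i j, by simp⟩⟩

variable [Fintype idx] (P : RootPairing idx ℤ M N) [P.IsReduced] {S : Set idx}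

/-- The coroots of positive roots are non-negative combinations of the simple coroots. -/
theorem coroot_mem_closure [P.IsCrystallographic] {Δ : Set idx} (hΔ : Simple P Δ) {k : idx} (hk : k ∈ posOf P Δ) :
    P.coroot k ∈ AddSubmonoid.closure (P.coroot '' Δ) := by
  classical
  induction hn : (hΔ.ht k).toNat using Nat.strong_induction_on generalizing k with
  | _ n ih =>
  obtain ⟨a, ha, hca, hna⟩ := hΔ.exists_simple_pos hk
  by_cases hne : ∀ b, b ≠ a → hΔ.co k b = 0
  · rw [hΔ.eq_of_pos_multiple ha hk (isIndiv_of_reduced k) hne]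
    exact AddSubmonoid.subset_closure ⟨a, ha, rfl⟩
  push Not at hne
  set j := P.reflectionPerm a k
  have hj : j ∈ posOf P Δ := hΔ.refl_pos ha hk hne
  have hlt : hΔ.ht j < hΔ.ht k := by
    simp only [j, Simple.ht, hΔ.co_refl ha, Pi.sub_apply, Finset.sum_sub_distrib]
    simp; exact hna
  have hja : nn P j a = -nn P k a := by
    rw [nn_eq_of_root_comb P (j := j) (c := hΔ.co j) (hΔ.co_spec j).symm a, hΔ.co_refl ha]
    simp only [Pi.sub_apply, sub_mul, Finset.sum_sub_distrib, ← hΔ.nn_eq k a]
    rw [Finset.sum_eq_single a (fun b _ hb => by simp [hb]) (by simp), Pi.single_eq_same, nn_self]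
    ring
  have hpos := hΔ.ht_pos hj
  have hmem := ih (hΔ.ht j).toNat (by omega) hj rfl
  have hc : P.coroot k = P.coroot j + (-nn P a j).toNat • P.coroot a := by
    have haj : nn P a j < 0 := (nn_neg_comm P).mp (by omega)
    have e : k = P.reflectionPerm a j := (P.reflectionPerm_self a k).symm
    conv_lhs => rw [e, P.coroot_reflectionPerm, P.coreflection_apply_coroot]
    rw [← nn_cast P a j, Int.cast_id, ← natCast_zsmul, Int.toNat_of_nonneg (by omega), neg_smul, sub_eq_add_neg]
  rw [hc]
  have hamem : P.coroot a ∈ AddSubmonoid.closure (P.coroot '' Δ) := AddSubmonoid.subset_closure ⟨a, ha, rfl⟩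
  exact add_mem hmem (nsmul_mem hamem _)

/-- A system of positive roots of a reduced root datum comes from a base. -/
theorem exists_base_of_posSys (hS : IsPosSys P S) : ∃ b : P.Base, RedSub.posRoots P b = S := by
  classical
  haveI := isCrys P
  have hΔ := indec_simple hS
  refine ⟨
    { support := (indec P S).toFinset
      linearIndepOn_root := by rw [Set.coe_toFinset]; exact hΔ.li
      linearIndepOn_coroot := by rw [Set.coe_toFinset]; exact hΔ.coroot_li
      root_mem_or_neg_mem := fun i => by rw [Set.coe_toFinset]; exact hΔ.mem i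
      coroot_mem_or_neg_mem := fun i => by
        rw [Set.coe_toFinset, ← RootData.coroot_neg]
        exact (hΔ.posOf_isPosSys.cover i).imp (coroot_mem_closure P hΔ) (coroot_mem_closure P hΔ) }, ?_⟩
  refine Eq.trans ?_ (posOf_indec hS)
  show {a | P.root a ∈ AddSubmonoid.closure (P.root '' ((indec P S).toFinset : Set idx))} = _
  rw [Set.coe_toFinset]
  rfl

/-- A closed set without opposite roots is contained in the positive roots of some base. -/
theorem exists_base_of_closed (R : Set idx)
    (hcl : ∀ a b c : idx, a ∈ R → b ∈ R → P.root a + P.root b = P.root c → c ∈ R)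
    (hneg : ∀ a ∈ R, P.reflectionPerm a a ∉ R) : ∃ b : P.Base, R ⊆ RedSub.posRoots P b := by
  classical
  haveI := isCrys P
  -- a maximal closed set without opposite roots
  let good : Set (Set idx) := {U | R ⊆ U ∧ IsClosedSub P U ∧ ∀ a ∈ U, P.reflectionPerm a a ∉ U}
  obtain ⟨U, hU⟩ := good.toFinite.exists_maximal ⟨R, subset_rfl, fun i j k hi hj hk => hcl i j k hi hj hk.symm, hneg⟩
  obtain ⟨hRU, hUcl, hUneg⟩ := hU.1
  have hcov : ∀ i, i ∈ U ∨ P.reflectionPerm i i ∈ U := by
    intro i
    by_contra hi
    push Not at hi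
    -- adjoin either root
    let V : idx → Set idx := fun c => {k | P.root k ∈ natSpan P (insert c U)}
    have hV : ∀ c, IsClosedSub P (V c) := fun c a b k ha hb hk => by
      show P.root k ∈ natSpan P (insert c U)
      rw [hk]; exact add_mem ha hb
    have hsub : ∀ c, U ⊆ V c := fun c k hk => root_mem_natSpan (Set.mem_insert_of_mem c hk)
    have hbad : ∀ c, c ∉ U → ∃ m : ℕ, 0 < m ∧ -(m • P.root c) ∈ natSpan P U := by
      intro c hc
      obtain ⟨k, hk, hk'⟩ : ∃ k ∈ V c, P.reflectionPerm k k ∈ V c := by
        by_contra h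
        push Not at h
        have := hU.2 (show V c ∈ good from ⟨hRU.trans (hsub c), hV c, h⟩) (hsub c)
        exact hc (this (root_mem_natSpan (Set.mem_insert c U)))
      have hsplit : ∀ x ∈ natSpan P (insert c U), ∃ m : ℕ, ∃ y ∈ natSpan P U, x = m • P.root c + y := by
        intro x hx
        induction hx using AddSubmonoid.closure_induction with
        | mem x hx =>
          obtain ⟨l, hl, rfl⟩ := hx
          rcases hl with rfl | hl
          · exact ⟨1, 0, zero_mem _, by simp⟩
          · exact ⟨0, P.root l, root_mem_natSpan hl, by simp⟩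
        | zero => exact ⟨0, 0, zero_mem _, by simp⟩
        | add x y _ _ hx hy =>
          obtain ⟨m, x', hx', rfl⟩ := hx
          obtain ⟨m', y', hy', rfl⟩ := hy
          exact ⟨m + m', x' + y', add_mem hx' hy', by rw [add_smul]; abel⟩
      have hk'' : -P.root k ∈ natSpan P (insert c U) := by rw [← RootData.root_neg]; exact hk'
      obtain ⟨m, y, hy, e⟩ := hsplit _ hk
      obtain ⟨m', y', hy', e'⟩ := hsplit _ hk''
      refine ⟨m + m', Nat.pos_of_ne_zero fun h0 => P.ne_zero k ?_, ?_⟩
      · obtain ⟨rfl, rfl⟩ : m = 0 ∧ m' = 0 := by omega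
        rw [zero_smul, zero_add] at e e'
        rw [e]
        exact pointed_add hUcl hUneg hy (by rw [← e, e']; exact hy')
      · have h1 : -((m + m') • P.root c) = y + y' := by
          have h2 : (m • P.root c + y) + (m' • P.root c + y') = 0 := by rw [← e, ← e', add_neg_cancel]
          rw [neg_eq_iff_add_eq_zero, add_smul, ← h2]
          abel
        rw [h1]; exact add_mem hy hy'
    obtain ⟨m, hm, h1⟩ := hbad i hi.1
    obtain ⟨m', hm', h2⟩ := hbad _ hi.2
    rw [RootData.root_neg, smul_neg, neg_neg] at h2
    have h1' : -((m * m') • P.root i) ∈ natSpan P U := by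
      rw [mul_comm, mul_smul, ← smul_neg]; exact nsmul_mem h1 _
    have h2' : (m * m') • P.root i ∈ natSpan P U := by rw [mul_smul]; exact nsmul_mem h2 _
    have h0 := pointed_add hUcl hUneg h2' h1'
    refine P.ne_zero i (zsmul_cancelM P (n := ((m * m' : ℕ) : ℤ)) (by positivity) ?_)
    rw [natCast_zsmul, h0, smul_zero]
  obtain ⟨b, hb⟩ := exists_base_of_posSys P (isPosSys_of_closed hUneg hcov hUcl)
  exact ⟨b, hb.symm ▸ hRU⟩

theorem nonempty_base : Nonempty P.Base := by
  haveI := isCrys P
  obtain ⟨S, hS⟩ := exists_posSys P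
  exact ⟨(exists_base_of_posSys P hS).choose⟩

end Groth.Agent.Reduced22
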