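import Groth.Agent.Red23Lib.Pinned.Inner
import Groth.Agent.RedCell22.BruhatField
import Groth.Agent.RedCell22.BruhatMap
import Groth.Agent.RedCell22.DerivedHom
import Groth.Agent.RedCell22.SimpleForm
import Groth.Agent.RedCell22.RankOneCover
import Groth.Agent.Reduced22.Main
import Groth.Agent.Reduced22.RootBase

/-!
# Points normalising the torus act through the Weyl group
-/

set_option autoImplicit false
set_option linter.unusedSectionVars false
set_option linter.style.haveILetI false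

universe u

open CategoryTheory CategoryTheory.Limits AlgebraicGeometry MonoidalCategory CartesianMonoidalCategory
open MonObj GrpObj

noncomputable section

namespace Groth.Agent.WeylAct22

open Groth.Agent.RedCell22 Groth.Agent

variable {S : Scheme.{u}} {G : Over S} [GrpObj G] [IsAffineHom G.hom] {D : Red.SplitRed G}

theorem wordHom_reverse_comp (l : List D.idx) : (wordHom D l.reverse).comp (wordHom D l) = AddMonoidHom.id D.M := by
  induction l with
  | nil => rfl
  | cons a l ih =>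
    have hsnoc : ∀ (l' : List D.idx), wordHom D (l' ++ [a]) = (wordHom D l').comp (reflHom D a) := by
      intro l'
      induction l' with
      | nil => rfl
      | cons c l' ih' => show (reflHom D c).comp (wordHom D (l' ++ [a])) = _; rw [ih']; rfl
    rw [List.reverse_cons, hsnoc]
    refine AddMonoidHom.ext fun m => ?_
    show wordHom D l.reverse (reflHom D a (reflHom D a (wordHom D l m))) = _
    rw [show reflHom D a (reflHom D a (wordHom D l m)) = wordHom D l m from D.P.reflection_same a _]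
    exact DFunLike.congr_fun ih m

theorem prod_reflection_eq (l : List D.idx) :
    ((l.map fun a => D.P.reflection a).prod : D.M ≃ₗ[ℤ] D.M).toLinearMap.toAddMonoidHom = wordHom D l := by
  induction l with
  | nil => rfl
  | cons a l ih =>
    refine AddMonoidHom.ext fun m => ?_
    have h := DFunLike.congr_fun ih m
    rw [List.map_cons, List.prod_cons]
    show D.P.reflection a (((l.map fun a => D.P.reflection a).prod : D.M ≃ₗ[ℤ] D.M) m) = reflHom D a (wordHom D l m)
    rw [← h]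
    rfl

section Pts

variable {A : Type u} [CommRing A] {b : Spec (CommRingCat.of A) ⟶ S}
variable {B : Type u} [CommRing B] [Algebra A B]

/-- Conjugation by the inverse of `g` acts on the torus by `f`. -/
def Acts (g : tb b B ⟶ G) (f : D.M →+ D.M) : Prop :=
  ∀ (C : Type u) [CommRing C] [Algebra A C] (φ : B →ₐ[A] C) (χ : Multiplicative D.M →* Cˣ),
    (tm b φ ≫ g)⁻¹ * tG D (tpt D χ) * (tm b φ ≫ g) = tG D (tpt D (χ.comp (AddMonoidHom.toMultiplicative f)))

/-- Conjugation by the inverse of `g` carries the torus into itself. -/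
def Normalises (D : Red.SplitRed G) (g : tb b B ⟶ G) : Prop :=
  ∀ (C : Type u) [CommRing C] [Algebra A C] (φ : B →ₐ[A] C) (s : tb b C ⟶ D.T),
    ∃ s', (tm b φ ≫ g)⁻¹ * tG D s * (tm b φ ≫ g) = tG D s'

theorem acts_nWord {nr : D.idx → (𝟙_ (Over S) ⟶ G)} (hnr : RedSub.RealisesReflections D nr) (l : List D.idx) :
    Acts (nWord nr l (tb b B)) (wordHom D l) := fun C _ _ φ χ => by
  rw [nWord_map]
  exact nWord_conj_tG hnr l χ

variable {φ : D.M →+ ℤ}

/-- A point of the big cell which normalises the torus commutes with it. -/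
theorem cell_commutes {v u : tb b B ⟶ G} {t s σ : tb b B ⟶ D.T}
    (hv : (lam D (-φ)).HasLimOne v) (hu : (lam D φ).HasLimOne u)
    (h : (v * tG D t * u)⁻¹ * tG D s * (v * tG D t * u) = tG D σ) : σ = s := by
  have h' : tG D s * (v * tG D t * u) = (v * tG D t * u) * tG D σ := by
    rw [← h]; group
  have key : s * t = t * σ := by
    refine cell_torus_unique (v := tG D s * v * (tG D s)⁻¹) (v' := v) (u := u)
      (u' := (tG D σ)⁻¹ * u * tG D σ) (hv.conj_fixed (fixed_tG D (-φ) s)) hv hu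
      (by simpa using hu.conj_fixed (fixed_tG D φ σ).inv) ?_
    calc tG D s * v * (tG D s)⁻¹ * tG D (s * t) * u = tG D s * (v * tG D t * u) := by rw [tG_mul]; group
      _ = (v * tG D t * u) * tG D σ := h'
      _ = _ := by rw [tG_mul]; group
  rw [torus_comm D s t] at key
  exact (mul_left_cancel key).symm

end Pts

section Field

variable {K : Type u} [Field K] [IsAlgClosed K] {b : Spec (CommRingCat.of K) ⟶ S}
variable {φ : D.M →+ ℤ} {nr : D.idx → (𝟙_ (Over S) ⟶ G)}

/-- A geometric point normalising the torus acts on it by an element of the Weyl group. -/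
theorem exists_acts (base : D.P.Base) (hnr : RedSub.RealisesReflections D nr)
    (hφ : ∀ c ∈ base.support, 0 < φ (D.P.root c)) (g : tb b K ⟶ G) (hg : Normalises D g) :
    ∃ l, Acts g (wordHom D l) := by
  obtain ⟨l, v₀, t₀, u₀, hv₀, hu₀, hge⟩ := exists_inBruhat base hnr hφ g
  refine ⟨l, fun C _ _ ψ χ => ?_⟩
  obtain ⟨σ, hσ⟩ := hg C ψ (tpt D χ)
  rw [hσ]
  congr 1
  let n := nWord nr l (tb b C)
  let v := tm b ψ ≫ v₀
  let u := tm b ψ ≫ u₀
  let t := tm b ψ ≫ t₀
  let s : tb b C ⟶ D.T := tpt D χ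
  let ρ : tb b C ⟶ D.T := tpt D (χ.comp (AddMonoidHom.toMultiplicative (wordHom D l)))
  have hρ : n⁻¹ * tG D s * n = tG D ρ := nWord_conj_tG hnr l χ
  have hg' : tm b ψ ≫ g = v * n * tG D t * u := by
    rw [hge, tm_mul, tm_mul, tm_mul, nWord_map, tG_map]
  rw [hg'] at hσ
  let v' := tG D s * v * (tG D s)⁻¹
  have hv : (lam D (-φ)).HasLimOne v := hv₀.map _ _
  have hu : (lam D φ).HasLimOne u := hu₀.map _ _
  have hv' : (lam D (-φ)).HasLimOne v' := hv.conj_fixed (fixed_tG D (-φ) s)
  have e1 : v'⁻¹ * v * n * (tG D t * u * tG D σ) = n * tG D ρ * tG D t * u := by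
    rw [← hσ, ← hρ]
    simp only [v', s]
    group
  obtain ⟨k, e, hee⟩ := exists_enumerates (RedSub.negMeetNeg D.P base (RedSub.wordPerm D.P l))
  obtain ⟨y, u₁, hu₁, he₁⟩ := exists_split_neg base hnr hφ l hee ((hv'.inv _).mul _ hv)
  let va := n⁻¹ * word D e y * n
  have hva : (lam D (-φ)).HasLimOne va := nWord_inv_conj_hasLimOne base hnr l e (fun i => by
    rw [AddMonoidHom.neg_apply, neg_pos]
    exact (mem_posRoots_iff D.P base hφ _).2.1.mp ((Set.ext_iff.mp hee.2 _).mp ⟨i, rfl⟩).2) y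
  have e2 : va * tG D (t * σ) * ((tG D (t * σ))⁻¹ * u₁ * tG D (t * σ) * ((tG D σ)⁻¹ * u * tG D σ)) =
      1 * tG D (ρ * t) * u := by
    calc va * tG D (t * σ) * ((tG D (t * σ))⁻¹ * u₁ * tG D (t * σ) * ((tG D σ)⁻¹ * u * tG D σ))
        = n⁻¹ * (word D e y * n * u₁) * (tG D t * u * tG D σ) := by
          simp only [va, tG_mul]; group
      _ = n⁻¹ * (n * tG D ρ * tG D t * u) := by
          rw [← he₁, ← e1]; simp only [n]; group
      _ = 1 * tG D (ρ * t) * u := by rw [tG_mul]; group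
  have key : t * σ = ρ * t := cell_torus_unique hva (Cochar.hasLimOne_one _)
    (Cochar.HasLimOne.mul _ (by simpa using hu₁.conj_fixed (fixed_tG D φ (t * σ)).inv)
      (by simpa using hu.conj_fixed (fixed_tG D φ σ).inv)) hu e2
  rw [torus_comm D t σ] at key
  exact mul_right_cancel key

/-- Such a point differs from the representative by a point of the torus. -/
theorem exists_torus (base : D.P.Base) (hnr : RedSub.RealisesReflections D nr)
    (hφ : ∀ c ∈ base.support, 0 < φ (D.P.root c)) {g : tb b K ⟶ G} {l : List D.idx} (hg : Acts g (wordHom D l)) :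
    ∃ t : tb b K ⟶ D.T, g * (nWord nr l (tb b K))⁻¹ = tG D t := by
  refine Red23Lib.Pinned.Inner.exists_torus_of_fixed D base hφ ?_
  let C := LaurentPolynomial K
  let CLm : K →ₐ[K] C := CL
  let s := tG D (tpt D (coVal D φ (Tu K))) (b := b)
  let n := nWord nr l (tb b C)
  have h1 := hg C CLm (coVal D φ (Tu K))
  have h2 := nWord_conj_tG (b := b) (B := C) hnr l (coVal D φ (Tu K))
  have h3 : (tm b CLm ≫ g)⁻¹ * s * (tm b CLm ≫ g) = n⁻¹ * s * n := h1.trans h2.symm
  have h4 : s * ((tm b CLm ≫ g) * n⁻¹) * s⁻¹ = (tm b CLm ≫ g) * n⁻¹ := by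
    calc s * ((tm b CLm ≫ g) * n⁻¹) * s⁻¹
        = (tm b CLm ≫ g) * ((tm b CLm ≫ g)⁻¹ * s * (tm b CLm ≫ g)) * n⁻¹ * s⁻¹ := by group
      _ = (tm b CLm ≫ g) * n⁻¹ := by rw [h3]; group
  show s * (tm b CLm ≫ (g * (nWord nr l (tb b K))⁻¹)) * s⁻¹ = tm b CLm ≫ (g * (nWord nr l (tb b K))⁻¹)
  rw [tm_mul, tm_inv, nWord_map]
  exact h4

end Field

section Global

variable {φ : D.M →+ ℤ} {nr : D.idx → (𝟙_ (Over S) ⟶ G)} {X : Over S} {g : X ⟶ G} {n m : ℕ}
  {ln : Fin n → D.idx} {lp : Fin m → D.idx}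

theorem eq_of_acts {K : Type u} [Field K] {b : Spec (CommRingCat.of K) ⟶ S} {g : tb b K ⟶ G} {f f' : D.M →+ D.M}
    (h : Acts g f) (h' : Acts g f') : f = f' := by
  refine AddMonoidHom.ext fun x => ?_
  by_contra hne
  obtain ⟨q, hq⟩ : ∃ q : D.M →+ ℤ, q (f x) ≠ q (f' x) := by
    by_contra hall
    push Not at hall
    exact hne ((Module.Free.chooseBasis ℤ D.M).ext_elem fun i =>
      hall ((Module.Free.chooseBasis ℤ D.M).coord i).toAddMonoidHom)
  apply hq
  let χ : Multiplicative D.M →* (LaurentPolynomial K)ˣ := RedCell22.coVal D q (Tu K)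
  have h1 := tG_injective D ((h _ CL χ).symm.trans (h' _ CL χ))
  have h2 := congrArg (chr D x) h1
  rw [chr_tpt, chr_tpt] at h2
  have h3 : χ (Multiplicative.ofAdd (f x)) = χ (Multiplicative.ofAdd (f' x)) := h2
  simp only [χ] at h3
  rw [RedCell22.coVal_apply, RedCell22.coVal_apply, Units.ext_iff, Tu_zpow, Tu_zpow] at h3
  by_contra hij
  have h4 := congrArg (fun p => p.coeff (q (f x))) h3
  simp only [← LaurentPolynomial.single_eq_C_mul_T, LaurentPolynomial.T, AddMonoidAlgebra.coeff_single,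
    Finsupp.single_eq_same, Finsupp.single_eq_of_ne hij] at h4
  exact one_ne_zero h4

/-- The inverse of conjugation by `g` carries the torus into itself. -/
def NormPts (D : Red.SplitRed G) (g : X ⟶ G) : Prop :=
  ∀ (X' : Over S) (y : X' ⟶ X) (t : X' ⟶ D.T), ∃ t' : X' ⟶ D.T, (y ≫ g)⁻¹ * (t ≫ D.i) * (y ≫ g) = t' ≫ D.i

theorem normalises_of_normPts (hg : NormPts D g) {A : Type u} [CommRing A] {b : Spec (CommRingCat.of A) ⟶ S}
    {B : Type u} [CommRing B] [Algebra A B] (q : tb b B ⟶ X) : Normalises D (q ≫ g) := fun C _ _ ψ s => by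
  obtain ⟨t', h⟩ := hg _ (tm b ψ ≫ q) s
  refine ⟨t', ?_⟩
  rw [Category.assoc] at h
  exact h

/-- The difference with the representative of a word. -/
def diff (nr : D.idx → (𝟙_ (Over S) ⟶ G)) (g : X ⟶ G) (l : List D.idx) : X ⟶ G := g * (nWord nr l X)⁻¹

theorem comp_diff {A : Type u} [CommRing A] {b : Spec (CommRingCat.of A) ⟶ S} {B : Type u} [CommRing B] [Algebra A B]
    (q : tb b B ⟶ X) (l : List D.idx) : q ≫ diff nr g l = (q ≫ g) * (nWord nr l (tb b B))⁻¹ := by
  rw [diff, MonObj.comp_mul, GrpObj.comp_inv, nWord, ← Category.assoc, comp_toUnit]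
  rfl

/-- Where the difference lies in the big cell, `g` acts as the word does. -/
theorem acts_of_mem (hnr : RedSub.RealisesReflections D nr) (hln : PosList D (-φ) ln) (hlp : PosList D φ lp)
    [IsOpenImmersion (RedSub.cellMap D ln lp).left] (hg : NormPts D g)
    (l : List D.idx) {A : Type u} [CommRing A] {b : Spec (CommRingCat.of A) ⟶ S} (q : tb b A ⟶ X)
    (hq : ∀ z, (diff nr g l).left (q.left z) ∈ (RedSub.cellMap D ln lp).left.opensRange) :
    Acts (q ≫ g) (wordHom D l) := fun C _ _ ψ χ => by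
  let cm := RedSub.cellMap D ln lp
  let N := nWord nr l (tb b C)
  let h := tm b ψ ≫ q ≫ g
  let Z : tb b C ⟶ G := (tm b ψ ≫ q) ≫ diff nr g l
  have hr : Set.range Z.left ⊆ Set.range cm.left := by
    rintro _ ⟨z, rfl⟩
    exact hq _
  let p : tb b C ⟶ CellSrc D n m :=
    Over.homMk (IsOpenImmersion.lift cm.left Z.left hr) (by rw [← Over.w cm, IsOpenImmersion.lift_fac_assoc, Over.w])
  have hp : p ≫ cm = Z := Over.OverMorphism.ext (IsOpenImmersion.lift_fac _ _ _)
  obtain ⟨y, t, x, hpe⟩ := exists_cellPt D p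
  have hZ : h * N⁻¹ = word D ln y * tG D t * word D lp x := by
    have e := comp_diff (nr := nr) (g := g) (tm b ψ ≫ q) l
    rw [Category.assoc] at e
    rw [show h * N⁻¹ = Z from (e.trans rfl).symm.trans (Category.assoc _ _ _).symm, ← hp, hpe, cellPt_cellMap,
      cellWord, _root_.mul_assoc]
  obtain ⟨σ, hσ⟩ := normalises_of_normPts hg q C ψ (tpt D χ)
  obtain ⟨χσ, rfl⟩ := tpt_surjective D σ
  let τ := χσ.comp (AddMonoidHom.toMultiplicative (wordHom D l.reverse))
  have hττ : τ.comp (AddMonoidHom.toMultiplicative (wordHom D l)) = χσ := MonoidHom.ext fun z => by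
    show χσ (Multiplicative.ofAdd (wordHom D l.reverse (wordHom D l z.toAdd))) = _
    rw [show wordHom D l.reverse (wordHom D l z.toAdd) = z.toAdd from DFunLike.congr_fun (wordHom_reverse_comp l) _]
    rfl
  have h1 : N⁻¹ * tG D (tpt D τ) * N = tG D (tpt D χσ) := (nWord_conj_tG hnr l τ).trans (by rw [hττ])
  have hσ' : h⁻¹ * tG D (tpt D χ) * h = tG D (tpt D χσ) := hσ
  have h2 : (h * N⁻¹)⁻¹ * tG D (tpt D χ) * (h * N⁻¹) = tG D (tpt D τ) := by
    calc (h * N⁻¹)⁻¹ * tG D (tpt D χ) * (h * N⁻¹) = N * (h⁻¹ * tG D (tpt D χ) * h) * N⁻¹ := by group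
      _ = tG D (tpt D τ) := by rw [hσ', ← h1]; group
  rw [hZ] at h2
  have h3 := cell_commutes (hasLimOne_word D (hln.pos D) y) (hasLimOne_word D (hlp.pos D) x) h2
  rw [h3] at h1
  exact hσ.trans (h1.symm.trans (nWord_conj_tG hnr l χ))

theorem tG_one_mem (ln : Fin n → D.idx) (lp : Fin m → D.idx) {K : Type u} [Field K]
    {b : Spec (CommRingCat.of K) ⟶ S} (t : tb b K ⟶ D.T) :
    (tG D t : tb b K ⟶ G).left (IsLocalRing.closedPoint K) ∈ Set.range (RedSub.cellMap D ln lp).left.base :=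
  mem_range_of_lift _ (cellPt D (fun _ => (0 : K)) t fun _ => 0)
    (by rw [cellPt_cellMap, cellWord, word_zero, word_zero, _root_.one_mul, _root_.mul_one])

theorem tpt_split {A : Type u} [CommRing A] {b : Spec (CommRingCat.of A) ⟶ S} {B : Type u} [CommRing B] [Algebra A B]
    (χ : Multiplicative D.M →* Bˣ) (f : D.M →+ D.M) :
    (tpt D χ : tb b B ⟶ D.T) ≫ D.split.hom.hom.hom ≫ Red.DSmap S f ≫ D.split.inv.hom.hom =
      tpt D (χ.comp (AddMonoidHom.toMultiplicative f)) := by
  have h : D.split.inv.hom.hom ≫ D.split.hom.hom.hom = 𝟙 _ := congrArg (fun z => z.hom.hom) D.split.inv_hom_id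
  rw [tpt, Category.assoc, reassoc_of% h, ← Category.assoc, dsPt_DSmap]
  rfl

/-- A point normalising the torus acts through one element of the Weyl group over a connected base. -/
theorem exists_acts_global (base : D.P.Base) (hnr : RedSub.RealisesReflections D nr)
    (hφ : ∀ c ∈ base.support, 0 < φ (D.P.root c)) (hln : PosList D (-φ) ln) (hlp : PosList D φ lp)
    [ConnectedSpace ↥X.left] (hg : NormPts D g) :
    ∃ w : List D.idx, ∀ (X' : Over S) (y : X' ⟶ X) (t : X' ⟶ D.T),
      (y ≫ g) * (t ≫ D.i) * (y ≫ g)⁻¹ =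
        t ≫ D.split.hom.hom.hom ≫ Red.DSmap S (wordHom D w) ≫ D.split.inv.hom.hom ≫ D.i := by
  haveI := isOpenImmersion_cell hln hlp (fun a => (mem_posRoots_iff D.P base hφ a).2.2)
  let U : List D.idx → X.left.Opens := fun l => (diff nr g l).left ⁻¹ᵁ (RedSub.cellMap D ln lp).left.opensRange
  have hcov : ∀ x : ↥X.left, ∃ l, x ∈ U l := fun x => by
    obtain ⟨K, _, _, b, q, rfl⟩ := exists_geom_point x
    obtain ⟨l, hl⟩ := exists_acts base hnr hφ (q ≫ g) (normalises_of_normPts hg q)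
    obtain ⟨t, ht⟩ := exists_torus base hnr hφ hl
    refine ⟨l, ?_⟩
    show (q ≫ diff nr g l).left (IsLocalRing.closedPoint K) ∈ Set.range (RedSub.cellMap D ln lp).left.base
    rw [comp_diff, ht]
    exact tG_one_mem ln lp t
  have hacts : ∀ (l : List D.idx) {A : Type u} [CommRing A] {b : Spec (CommRingCat.of A) ⟶ S} (q : tb b A ⟶ X),
      (∀ z, q.left z ∈ U l) → Acts (q ≫ g) (wordHom D l) :=
    fun l {A} _ {b} q hq => acts_of_mem hnr hln hlp hg l q hq
  choose L hL using hcov
  have huniq : ∀ (x : ↥X.left) (l : List D.idx), x ∈ U l → wordHom D l = wordHom D (L x) := by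
    intro x l hl
    obtain ⟨K, _, _, b, q, rfl⟩ := exists_geom_point x
    have hz : ∀ z, q.left z = q.left (IsLocalRing.closedPoint K) := fun z =>
      congrArg _ (Subsingleton.elim (α := Spec (CommRingCat.of K)) _ _)
    exact eq_of_acts (hacts l q fun z => by rw [hz z]; exact hl) (hacts (L (q.left (IsLocalRing.closedPoint K))) q fun z => by rw [hz z]; exact hL (q.left (IsLocalRing.closedPoint K)))
  have hloc : IsLocallyConstant fun x => wordHom D (L x) := (IsLocallyConstant.iff_exists_open _).mpr fun x =>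
    ⟨U (L x), (U (L x)).isOpen, hL x, fun x' hx' => (huniq x' (L x) hx').symm⟩
  obtain ⟨x₀⟩ := (inferInstance : Nonempty ↥X.left)
  refine ⟨(L x₀).reverse, fun X' y t => ?_⟩
  have hW : ∀ x' : ↥X'.left, ∃ W : X'.left.Opens, IsAffineOpen W ∧ x' ∈ W ∧ W ≤ y.left ⁻¹ᵁ U (L (y.left x')) :=
    fun x' => by
      obtain ⟨W, hW, hxW, hle⟩ := exists_isAffineOpen_mem_and_subset
        (show x' ∈ y.left ⁻¹ᵁ U (L (y.left x')) from hL _)
      exact ⟨W, hW, hxW, hle⟩
  choose W hW hxW hle using hW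
  refine Over.OverMorphism.ext ((X'.left.openCoverOfIsOpenCover W
    (TopologicalSpace.IsOpenCover.mk (top_le_iff.mp fun x _ => TopologicalSpace.Opens.mem_iSup.mpr ⟨x, hxW x⟩))).hom_ext
      _ _ fun x' => ?_)
  show (W x').ι ≫ _ = (W x').ι ≫ _
  rw [← cancel_epi (hW x').isoSpec.inv, ← Category.assoc, ← Category.assoc, (hW x').isoSpec_inv_ι]
  let q := testMap (hW x').fromSpec
  suffices h : q ≫ ((y ≫ g) * (t ≫ D.i) * (y ≫ g)⁻¹) =
      q ≫ t ≫ D.split.hom.hom.hom ≫ Red.DSmap S (wordHom D (L x₀).reverse) ≫ D.split.inv.hom.hom ≫ D.i from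
    congrArg CommaMorphism.left h
  rw [MonObj.comp_mul, MonObj.comp_mul, GrpObj.comp_inv]
  obtain ⟨χ, hχ⟩ := tpt_surjective D (q ≫ t)
  have hrhs : q ≫ t ≫ D.split.hom.hom.hom ≫ Red.DSmap S (wordHom D (L x₀).reverse) ≫ D.split.inv.hom.hom ≫ D.i =
      tG D (tpt D (χ.comp (AddMonoidHom.toMultiplicative (wordHom D (L x₀).reverse)))) := by
    rw [← tpt_split, hχ]
    simp only [tG, Category.assoc]
  have hlhs : q ≫ t ≫ D.i = tG D (tpt D χ) := by
    rw [hχ, tG, Category.assoc]
  have ha := hacts (L (y.left x')) (q ≫ y) (fun z => hle x' (by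
    have h : (hW x').fromSpec z ∈ Set.range (hW x').fromSpec := ⟨z, rfl⟩
    rw [(hW x').range_fromSpec] at h
    exact h)) _ (AlgHom.id _ _) (χ.comp (AddMonoidHom.toMultiplicative (wordHom D (L x₀).reverse)))
  rw [show wordHom D (L (y.left x')) = wordHom D (L x₀) from hloc.apply_eq_of_preconnectedSpace _ _, tm_id,
    Category.id_comp, MonoidHom.comp_assoc] at ha
  rw [hrhs, hlhs]
  have hid : (AddMonoidHom.toMultiplicative (wordHom D (L x₀).reverse)).comp
      (AddMonoidHom.toMultiplicative (wordHom D (L x₀))) = MonoidHom.id _ :=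
    MonoidHom.ext fun z => congrArg Multiplicative.ofAdd (DFunLike.congr_fun (wordHom_reverse_comp (L x₀)) z.toAdd)
  rw [hid, MonoidHom.comp_id] at ha
  rw [← ha, Category.assoc]
  group

end Global

end Groth.Agent.WeylAct22
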